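import Cfsg.Agent.Chars.Galois
import Cfsg.Agent.Chars.Sums
import Cfsg.Agent.Chars.Values
import Mathlib

/-!
Values of a character on a cyclic subgroup of prime power order: multiplicities of roots of unity.
-/

set_option autoImplicit false
set_option linter.unusedSectionVars false

namespace Cfsg.Lib.CyclicPair

open Cfsg Cfsg.Lib.Chars
open scoped ComplexConjugate

universe u

variable {G : Type u} [Group G] [Finite G]

theorem orth {z w : ℂ} {q : ℕ} (hz : z ^ q = 1) (hw : w ^ q = 1) (hw0 : w ≠ 0) :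
    ∑ t ∈ Finset.range q, z ^ t * w⁻¹ ^ t = if z = w then (q : ℂ) else 0 := by
  simp only [← mul_pow]
  split_ifs with h
  · simp [h, mul_inv_cancel₀ hw0]
  · have hne : z * w⁻¹ ≠ 1 := fun he => h ((mul_inv_eq_one₀ hw0).mp he)
    rw [geom_sum_eq hne, mul_pow, inv_pow, hz, hw]
    simp

/-- the transform of a function on the powers of an element -/
noncomputable def transform (f : G → ℂ) (u : G) (q : ℕ) (w : ℂ) : ℂ :=
  ∑ t ∈ Finset.range q, f (u ^ t) * w⁻¹ ^ t

/-- the primitive roots of unity occurring in `f` at `u` -/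
noncomputable def supp (f : G → ℂ) (u : G) (q : ℕ) : Finset ℂ := by
  classical exact (primitiveRoots q ℂ).filter fun w => transform f u q w ≠ 0

theorem transform_eq {χ : G → ℂ} {u : G} {q : ℕ} {ι : Type u} [Fintype ι] {c : ι → ℕ} {z : ι → ℂ}
    (hz : ∀ i, z i ^ q = 1) (h : ∀ j : ℕ, χ (u ^ j) = ∑ i, (c i : ℂ) * z i ^ j) {w : ℂ} (hw : w ^ q = 1) (hw0 : w ≠ 0)
    [DecidablePred fun i => z i = w] :
    transform χ u q w = (q : ℂ) * ((∑ i ∈ Finset.univ.filter (fun i => z i = w), c i : ℕ) : ℂ) := by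
  classical
  simp only [transform, h, Finset.sum_mul, mul_assoc]
  rw [Finset.sum_comm, Nat.cast_sum, Finset.mul_sum, Finset.sum_filter]
  refine Finset.sum_congr rfl fun i _ => ?_
  rw [← Finset.mul_sum, orth (hz i) hw hw0]
  split_ifs <;> ring

theorem analyse {χ : G → ℂ} (hχ : IsCharacter G χ) {p r : ℕ} (hp : p.Prime) (u : G)
    (hu : orderOf u = p ^ (r + 1)) {d : ℕ} (hd : χ 1 = (d : ℂ)) :
    ∃ n : ℕ, n ≤ d ∧
      ∑ j ∈ Finset.Icc 1 (p - 1), χ ((u ^ p ^ r) ^ j) = (p : ℂ) * n - d ∧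
      (n = d → χ (u ^ p ^ r) = χ 1) ∧
      (supp χ u (p ^ (r + 1))).card ≤ d - n ∧
      (n < d → (supp χ u (p ^ (r + 1))).Nonempty) ∧
      ∀ E : Finset ℕ, E ⊆ Finset.Icc 1 (p - 1) →
        (∀ j ∈ E, ∀ t : ℕ, χ ((u ^ p ^ r) ^ (j * t)) = χ ((u ^ p ^ r) ^ t)) → n < d → E.card ≤ d - n := by
  classical
  obtain ⟨ι, _, c, z, hz, h⟩ := IsCharacter.exists_cyclic_decomp hχ u
  rw [hu] at hz
  have hp1 := hp.one_lt
  haveI := Fact.mk hp
  have hz' : ∀ i, (z i ^ p ^ r) ^ p = 1 := fun i => by rw [← pow_mul, ← pow_succ, hz]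
  have hx : ∀ j : ℕ, χ ((u ^ p ^ r) ^ j) = ∑ i, (c i : ℂ) * (z i ^ p ^ r) ^ j := fun j => by
    rw [← pow_mul, h]
    simp only [pow_mul]
  have hdsum : d = ∑ i, c i := by
    have h0 := h 0
    simp only [pow_zero, mul_one, hd] at h0
    exact_mod_cast h0
  set S0 := Finset.univ.filter (fun i => z i ^ p ^ r = 1) with hS0
  set S1 := Finset.univ.filter (fun i => ¬ z i ^ p ^ r = 1) with hS1
  have hsplit : ∑ i ∈ S0, c i + ∑ i ∈ S1, c i = d := by
    rw [hdsum]; exact Finset.sum_filter_add_sum_filter_not _ _ _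
  have hprim : ∀ {w : ℂ}, w ^ p ^ (r + 1) = 1 → ¬ w ^ p ^ r = 1 → w ∈ primitiveRoots (p ^ (r + 1)) ℂ := by
    intro w hw1 hw2
    rw [mem_primitiveRoots (pow_pos hp.pos _), IsPrimitiveRoot.iff_orderOf]
    exact orderOf_eq_prime_pow hw2 hw1
  have hprim' : ∀ {w : ℂ}, w ∈ primitiveRoots (p ^ (r + 1)) ℂ → w ^ p ^ (r + 1) = 1 ∧ ¬ w ^ p ^ r = 1 ∧ w ≠ 0 := by
    intro w hw
    rw [mem_primitiveRoots (pow_pos hp.pos _)] at hw
    exact ⟨hw.pow_eq_one, hw.pow_ne_one_of_pos_of_lt (pow_pos hp.pos _).ne' (pow_lt_pow_right₀ hp1 (Nat.lt_succ_self r)),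
      hw.ne_zero (pow_pos hp.pos _).ne'⟩
  have hmem : ∀ {w : ℂ}, w ∈ supp χ u (p ^ (r + 1)) → w ∈ primitiveRoots (p ^ (r + 1)) ℂ ∧
      1 ≤ ∑ i ∈ Finset.univ.filter (fun i => z i = w), c i := by
    intro w hw
    simp only [supp, Finset.mem_filter] at hw
    refine ⟨hw.1, Nat.one_le_iff_ne_zero.mpr fun h0 => hw.2 ?_⟩
    obtain ⟨a, b, c'⟩ := hprim' hw.1
    rw [transform_eq hz h a c', h0]
    simp
  refine ⟨∑ i ∈ S0, c i, by omega, ?_, ?_, ?_, ?_, ?_⟩
  · rw [Finset.sum_congr rfl fun j _ => hx j, Finset.sum_comm, ← hsplit, Nat.cast_add,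
      ← Finset.sum_filter_add_sum_filter_not Finset.univ (fun i => z i ^ p ^ r = 1), ← hS0, ← hS1]
    have hIcc : ∀ w : ℂ, w ^ p = 1 → ∑ j ∈ Finset.Icc 1 (p - 1), w ^ j =
        (if w = 1 then (p : ℂ) else 0) - 1 := fun w hw => by
      have := orth hw (one_pow p) one_ne_zero
      simp only [inv_one, one_pow, mul_one] at this
      rw [← this, Finset.range_eq_Ico,
        Finset.sum_eq_sum_Ico_succ_bot hp.pos, pow_zero]
      rw [add_sub_cancel_left]
      refine Finset.sum_congr ?_ fun _ _ => rfl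
      ext j
      simp only [Finset.mem_Icc, Finset.mem_Ico]
      omega
    simp only [← Finset.mul_sum]
    rw [Finset.sum_congr rfl (fun i (hi : i ∈ S0) => by rw [hIcc _ (hz' i), if_pos (Finset.mem_filter.mp hi).2]),
      Finset.sum_congr rfl (fun i (hi : i ∈ S1) => by rw [hIcc _ (hz' i), if_neg (Finset.mem_filter.mp hi).2])]
    push_cast
    simp only [← Finset.sum_mul]
    ring
  · intro hn
    have h0 : ∀ i ∈ S1, c i = 0 := fun i hi =>
      (Finset.sum_eq_zero_iff.mp (show ∑ i ∈ S1, c i = 0 by omega)) i hi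
    have := hx 1
    rw [pow_one] at this
    rw [this, hd, hdsum, Nat.cast_sum]
    refine Finset.sum_congr rfl fun i _ => ?_
    by_cases hi : z i ^ p ^ r = 1
    · rw [hi, one_pow, mul_one]
    · rw [h0 i (Finset.mem_filter.mpr ⟨Finset.mem_univ _, hi⟩)]; simp
  · calc (supp χ u (p ^ (r + 1))).card = ∑ w ∈ supp χ u (p ^ (r + 1)), 1 := by simp
      _ ≤ ∑ w ∈ supp χ u (p ^ (r + 1)), ∑ i ∈ S1.filter (fun i => z i = w), c i := by
        refine Finset.sum_le_sum fun w hw => ?_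
        refine (hmem hw).2.trans (le_of_eq (Finset.sum_congr ?_ fun _ _ => rfl))
        ext i
        simp only [hS1, Finset.mem_filter, Finset.mem_univ, true_and]
        exact ⟨fun e => ⟨e ▸ (hprim' (hmem hw).1).2.1, e⟩, fun e => e.2⟩
      _ ≤ ∑ i ∈ S1, c i := Finset.sum_fiberwise_le_sum_of_sum_fiber_nonneg (fun _ _ => Nat.zero_le _)
      _ = d - ∑ i ∈ S0, c i := by omega
  · intro hlt
    obtain ⟨i, hi, hci⟩ : ∃ i ∈ S1, c i ≠ 0 := by
      by_contra hne
      push Not at hne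
      have := Finset.sum_eq_zero hne
      omega
    have hi' := (Finset.mem_filter.mp hi).2
    have hw := hprim (hz i) hi'
    refine ⟨z i, ?_⟩
    simp only [supp, Finset.mem_filter]
    refine ⟨hw, ?_⟩
    rw [transform_eq hz h (hz i) (hprim' hw).2.2]
    refine mul_ne_zero (Nat.cast_ne_zero.mpr (pow_pos hp.pos _).ne') (Nat.cast_ne_zero.mpr fun h0 => hci ?_)
    exact Finset.sum_eq_zero_iff.mp h0 i (Finset.mem_filter.mpr ⟨Finset.mem_univ _, rfl⟩)
  · intro E hE hinv hlt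
    obtain ⟨i₀, hi₀, hci⟩ : ∃ i ∈ S1, c i ≠ 0 := by
      by_contra hne
      push Not at hne
      have := Finset.sum_eq_zero hne
      omega
    set v := z i₀ ^ p ^ r with hv
    have hv1 : v ≠ 1 := (Finset.mem_filter.mp hi₀).2
    have hvp : IsPrimitiveRoot v p := by
      rw [IsPrimitiveRoot.iff_orderOf]
      exact orderOf_eq_prime (hz' i₀) hv1
    have hv0 : v ≠ 0 := hvp.ne_zero hp.pos.ne'
    have hA : ∀ j ∈ E, 1 ≤ ∑ i ∈ Finset.univ.filter (fun i => z i ^ p ^ r = v ^ j), c i := by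
      intro j hj
      refine Nat.one_le_iff_ne_zero.mpr fun h0 => ?_
      have hjp : (v ^ j) ^ p = 1 := by rw [← pow_mul, mul_comm, pow_mul, hvp.pow_eq_one, one_pow]
      have t1 := transform_eq (χ := χ) (u := u ^ p ^ r) hz' hx hjp (pow_ne_zero _ hv0)
      rw [h0, Nat.cast_zero, mul_zero] at t1
      have hcop : j.Coprime p := by
        have := Finset.mem_Icc.mp (hE hj)
        exact ((hp.coprime_iff_not_dvd).2 (Nat.not_dvd_of_pos_of_lt this.1 (by omega))).symm
      have t2 : transform (fun g => χ (g ^ j)) (u ^ p ^ r) p (v ^ j) =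
          (p : ℂ) * ((∑ i ∈ Finset.univ.filter (fun i => (z i ^ p ^ r) ^ j = v ^ j), c i : ℕ) : ℂ) :=
        transform_eq (χ := fun g => χ (g ^ j)) (u := u ^ p ^ r) (z := fun i => (z i ^ p ^ r) ^ j)
          (fun i => by rw [← pow_mul, mul_comm, pow_mul, hz', one_pow])
          (fun t => by
            show χ (((u ^ p ^ r) ^ t) ^ j) = _
            rw [← pow_mul (u ^ p ^ r) t j, hx]
            exact Finset.sum_congr rfl fun i _ => by rw [← pow_mul (z i ^ p ^ r) j t, mul_comm t j]) hjp (pow_ne_zero _ hv0)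
      have t3 : transform (fun g => χ (g ^ j)) (u ^ p ^ r) p (v ^ j) = transform χ (u ^ p ^ r) p (v ^ j) :=
        Finset.sum_congr rfl fun t _ => by
          show χ (((u ^ p ^ r) ^ t) ^ j) * _ = _
          rw [← pow_mul _ t j, mul_comm t j, hinv j hj t]
      rw [t3, t1] at t2
      have h4 := (mul_eq_zero.mp t2.symm).resolve_left (Nat.cast_ne_zero.mpr hp.pos.ne')
      rw [Nat.cast_eq_zero, Finset.sum_eq_zero_iff] at h4
      exact hci (h4 i₀ (Finset.mem_filter.mpr ⟨Finset.mem_univ _, rfl⟩))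
    have hinj : Set.InjOn (fun j => v ^ j) (E : Set ℕ) := fun a ha b hb hab => by
      have := Finset.mem_Icc.mp (hE ha)
      have := Finset.mem_Icc.mp (hE hb)
      exact hvp.pow_inj (by omega) (by omega) hab
    calc E.card = (E.image fun j => v ^ j).card := (Finset.card_image_of_injOn hinj).symm
      _ = ∑ w ∈ E.image (fun j => v ^ j), 1 := by simp
      _ ≤ ∑ w ∈ E.image (fun j => v ^ j), ∑ i ∈ S1.filter (fun i => z i ^ p ^ r = w), c i := by
        refine Finset.sum_le_sum fun w hw => ?_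
        obtain ⟨j, hj, rfl⟩ := Finset.mem_image.mp hw
        refine (hA j hj).trans (le_of_eq (Finset.sum_congr ?_ fun _ _ => rfl))
        ext i
        simp only [hS1, Finset.mem_filter, Finset.mem_univ, true_and]
        refine ⟨fun e => ⟨?_, e⟩, fun e => e.2⟩
        rw [e]
        intro h1
        have hj' := Finset.mem_Icc.mp (hE hj)
        exact hvp.pow_ne_one_of_pos_of_lt (by omega) (by omega) h1
      _ ≤ ∑ i ∈ S1, c i := Finset.sum_fiberwise_le_sum_of_sum_fiber_nonneg (fun _ _ => Nat.zero_le _)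
      _ = d - ∑ i ∈ S0, c i := by omega

/-- a Galois twist powers the support -/
theorem pow_mem_supp {χ ψ : G → ℂ} (hχ : IsCharacter G χ) {p r : ℕ} (hp : p.Prime) {u : G}
    (hu : orderOf u = p ^ (r + 1)) {k : ℕ} (hk : k.Coprime p) (hψ : ∀ t : ℕ, ψ (u ^ t) = χ (u ^ (t * k))) {w : ℂ}
    (hw : w ∈ supp χ u (p ^ (r + 1))) : w ^ k ∈ supp ψ u (p ^ (r + 1)) := by
  classical
  obtain ⟨ι, _, c, z, hz, h⟩ := IsCharacter.exists_cyclic_decomp hχ u
  rw [hu] at hz
  have hq : 0 < p ^ (r + 1) := pow_pos hp.pos _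
  have hkq : k.Coprime (p ^ (r + 1)) := hk.pow_right _
  simp only [supp, Finset.mem_filter] at hw ⊢
  have hw' := (mem_primitiveRoots hq).mp hw.1
  refine ⟨(mem_primitiveRoots hq).mpr (hw'.pow_of_coprime k hkq), ?_⟩
  have hw0 : w ≠ 0 := hw'.ne_zero hq.ne'
  have e1 := transform_eq (χ := χ) (u := u) hz h hw'.pow_eq_one hw0
  have e2 : transform ψ u (p ^ (r + 1)) (w ^ k) =
      ((p ^ (r + 1) : ℕ) : ℂ) * ((∑ i ∈ Finset.univ.filter (fun i => z i ^ k = w ^ k), c i : ℕ) : ℂ) :=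
    transform_eq (χ := ψ) (u := u) (z := fun i => z i ^ k) (fun i => by rw [← pow_mul, mul_comm, pow_mul, hz, one_pow])
      (fun t => by rw [hψ, h]; exact Finset.sum_congr rfl fun i _ => by rw [← pow_mul, mul_comm k t])
      (by rw [← pow_mul, mul_comm, pow_mul, hw'.pow_eq_one, one_pow]) (pow_ne_zero _ hw0)
  rw [e2]
  intro h0
  apply hw.2
  rw [e1]
  rcases mul_eq_zero.mp h0 with h1 | h1
  · rw [h1, zero_mul]
  · rw [Nat.cast_eq_zero, Finset.sum_eq_zero_iff] at h1
    rw [Finset.sum_eq_zero fun i hi => h1 i (Finset.mem_filter.mpr ⟨Finset.mem_univ _, by rw [(Finset.mem_filter.mp hi).2]⟩)]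
    simp

open scoped Classical in
/-- the sum over a conjugacy orbit, with multiplicity -/
theorem sum_conj_mul [Fintype G] {χ : G → ℂ} (hχ : IsIrrCharacter G χ) (a w : G) :
    ∑ g : G, χ (g * a * g⁻¹ * w) = (Nat.card G : ℂ) * χ a * χ w / χ 1 := by
  have hcl := isClassFunction_isChar (isCharacter_of_irr hχ)
  obtain ⟨n, ρ, hρ, rfl⟩ := hχ
  let f : G → ℂ := fun y => ((Finset.univ.filter fun g : G => g * a * g⁻¹ = y).card : ℂ)
  have hf : IsClassFunction G f := by
    intro y b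
    simp only [f]
    congr 1
    refine Finset.card_bij (fun g _ => b⁻¹ * g) ?_ ?_ ?_
    · intro g hg
      simp only [Finset.mem_filter, Finset.mem_univ, true_and] at hg ⊢
      calc b⁻¹ * g * a * (b⁻¹ * g)⁻¹ = b⁻¹ * (g * a * g⁻¹) * b := by group
        _ = y := by rw [hg]; group
    · intro g _ g' _ h; exact mul_left_cancel h
    · intro g hg
      refine ⟨b * g, ?_, by group⟩
      simp only [Finset.mem_filter, Finset.mem_univ, true_and] at hg ⊢
      calc b * g * a * (b * g)⁻¹ = b * (g * a * g⁻¹) * b⁻¹ := by group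
        _ = _ := by rw [hg]
  have h := sum_smul_rep_trace ρ hf w
  have hfib : ∀ φ : G → ℂ, ∑ y, f y * φ y = ∑ g : G, φ (g * a * g⁻¹) := by
    intro φ
    rw [← Finset.sum_fiberwise Finset.univ (fun g : G => g * a * g⁻¹) (fun g => φ (g * a * g⁻¹))]
    refine Finset.sum_congr rfl fun y _ => ?_
    simp only [f]
    rw [Finset.sum_congr rfl (fun g hg => by rw [(Finset.mem_filter.mp hg).2]), Finset.sum_const, nsmul_eq_mul]
  rw [hfib (fun y => ρ.character (y * w)), hfib ρ.character] at h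
  rw [h, Finset.sum_congr rfl fun g _ => hcl a g, Finset.sum_const, Finset.card_univ, nsmul_eq_mul,
    ← Nat.card_eq_fintype_card, ρ.char_one]
  ring

end Cfsg.Lib.CyclicPair
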