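import Cfsg.Agent.Components.CyclicPair.Local
import Cfsg.Agent.Components.CyclicPair.Values
import Cfsg.Agent.Blocks.Isometry
import Cfsg.Agent.Blocks.Feit3
import Mathlib

/-!
A non-abelian simple group with a cyclic Sylow `p`-subgroup has two elements of order `p` generating a
subgroup that is not `p`-solvable: proof by the principal block.
-/

set_option autoImplicit false
set_option linter.unusedSectionVars false
set_option linter.style.haveILetI false

namespace Cfsg.Lib.CyclicPair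

open Cfsg Cfsg.Lib.Chars Cfsg.Lib.Blocks
open scoped ComplexConjugate

universe u

variable {G : Type u} [Group G] [Finite G] {p : ℕ} [Fact p.Prime]

/-- the exponents `j` with `x^j` conjugate to `x^a` -/
noncomputable def fusSet (p : ℕ) (x : G) (a : ℕ) : Finset ℕ := by
  classical exact (Finset.Icc 1 (p - 1)).filter fun j => IsConj (x ^ a) (x ^ j)

/-- the number of exponents `j` with `x^j` conjugate to `x^a` -/
noncomputable def fus (p : ℕ) (x : G) (a : ℕ) : ℕ := (fusSet p x a).card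

theorem mem_fusSet {p : ℕ} {x : G} {a j : ℕ} :
    j ∈ fusSet p x a ↔ j ∈ Finset.Icc 1 (p - 1) ∧ IsConj (x ^ a) (x ^ j) := by
  unfold fusSet
  simp

theorem fus_le {x : G} (hx : orderOf x = p) {a i : ℕ} (hi : ¬ p ∣ i) : fus p x a ≤ fus p x (a * i) := by
  classical
  have hp := (Fact.out : p.Prime)
  refine Finset.card_le_card_of_injOn (fun j => j * i % p) ?_ ?_
  · intro j hj
    obtain ⟨hj1, hj2⟩ := mem_fusSet.mp (Finset.mem_coe.mp hj)
    obtain ⟨h1, h2⟩ := Finset.mem_Icc.mp hj1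
    refine Finset.mem_coe.mpr (mem_fusSet.mpr ⟨Finset.mem_Icc.mpr ⟨?_, ?_⟩, ?_⟩)
    · refine Nat.pos_of_ne_zero fun h => ?_
      exact (hp.dvd_mul.mp (Nat.dvd_of_mod_eq_zero h)).elim (Nat.not_dvd_of_pos_of_lt h1 (by omega)) hi
    · show j * i % p ≤ p - 1
      have := Nat.mod_lt (j * i) hp.pos; omega
    · obtain ⟨g, hg⟩ := isConj_iff.mp hj2
      refine isConj_iff.mpr ⟨g, ?_⟩
      rw [← hx, pow_mod_orderOf, pow_mul, pow_mul, ← conj_pow, hg]
  · intro j hj j' hj' h
    obtain ⟨h1, h2⟩ := Finset.mem_Icc.mp (mem_fusSet.mp (Finset.mem_coe.mp hj)).1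
    obtain ⟨h3, h4⟩ := Finset.mem_Icc.mp (mem_fusSet.mp (Finset.mem_coe.mp hj')).1
    exact (Nat.ModEq.cancel_right_of_coprime ((hp.coprime_iff_not_dvd).2 hi) h).eq_of_lt_of_lt (by omega) (by omega)

theorem fus_eq {x : G} (hx : orderOf x = p) {i : ℕ} (hi : ¬ p ∣ i) : fus p x i = fus p x 1 := by
  classical
  have hp := (Fact.out : p.Prime)
  obtain ⟨l, -, hl⟩ := Nat.exists_mul_mod_eq_one_of_coprime ((hp.coprime_iff_not_dvd).2 hi).symm hp.one_lt
  have hl' : ¬ p ∣ l := fun h => by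
    rw [Nat.mod_eq_zero_of_dvd (dvd_mul_of_dvd_right h i)] at hl
    exact zero_ne_one hl
  refine le_antisymm ?_ (by simpa using fus_le hx (a := 1) hi)
  refine (fus_le hx hl').trans (le_of_eq ?_)
  unfold fus
  refine congrArg Finset.card (Finset.ext fun j => ?_)
  rw [mem_fusSet, mem_fusSet, show x ^ (i * l) = x ^ 1 by rw [← pow_mod_orderOf, hx, hl]]

/-- a Galois conjugate of a character fixing all values at `p`-regular elements, prescribed on `p`-elements -/
theorem exists_twist [Fintype G] {M : Ideal AlgInt} (hM : IsPModular p M) {χ : IrrCharacter G}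
    (hχ : χ ∈ principalBlock M G) {k : ℕ} (hk : k.Coprime p) :
    ∃ ψ : IrrCharacter G, ψ ∈ principalBlock M G ∧ ∃ σ : ℂ ≃+* ℂ,
      (∀ g, (ψ : G → ℂ) g = σ ((χ : G → ℂ) g)) ∧
      ∀ g : G, (∃ a, orderOf g = p ^ a) → (ψ : G → ℂ) g = (χ : G → ℂ) (g ^ k) := by
  classical
  have hp := (Fact.out : p.Prime)
  obtain ⟨e, m, hm, hn⟩ := Nat.exists_eq_pow_mul_and_not_dvd (Nat.card_pos (α := G)).ne' p hp.ne_one
  have hco : (p ^ e).Coprime m := ((hp.coprime_iff_not_dvd).2 hm).pow_left e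
  obtain ⟨k', hk1, hk2⟩ := Nat.chineseRemainder hco k 1
  haveI : NeZero (Nat.card G) := ⟨Nat.card_pos.ne'⟩
  have hk' : k'.Coprime (Nat.card G) := by
    rw [hn]
    refine Nat.Coprime.mul_right ?_ ?_
    · rw [Nat.coprime_iff_gcd_eq_one, hk1.gcd_eq, ← Nat.coprime_iff_gcd_eq_one]
      exact hk.pow_right e
    · rw [Nat.coprime_iff_gcd_eq_one, hk2.gcd_eq, Nat.gcd_one_left]
  obtain ⟨σ, hσ⟩ := exists_galConj_auto hk'
  let ψ : IrrCharacter G := ⟨fun g => σ ((χ : G → ℂ) g), IsIrrCharacter.map_auto χ.2 σ⟩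
  have hval : ∀ g : G, (ψ : G → ℂ) g = (χ : G → ℂ) (g ^ k') := fun g =>
    hσ.apply_character (isCharacter_of_irr χ.2) (orderOf_dvd_natCard g)
  have hpow : ∀ g : G, (∃ a, orderOf g = p ^ a) → (ψ : G → ℂ) g = (χ : G → ℂ) (g ^ k) := by
    rintro g ⟨a, ha⟩
    have hdvd : orderOf g ∣ p ^ e := by
      have h1 := orderOf_dvd_natCard g
      rw [hn, ha] at h1
      rw [ha]
      exact (((hp.coprime_iff_not_dvd).2 hm).pow_left a).dvd_of_dvd_mul_right h1
    rw [hval]
    exact congrArg _ (pow_eq_pow_iff_modEq.mpr (hk1.of_dvd hdvd))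
  have hreg : ∀ g : G, ¬ p ∣ orderOf g → (ψ : G → ℂ) g = (χ : G → ℂ) g := by
    intro g hg
    have h1 := orderOf_dvd_natCard g
    rw [hn] at h1
    have hdvd : orderOf g ∣ m := (((hp.coprime_iff_not_dvd).2 hg).symm.pow_right e).dvd_of_dvd_mul_left h1
    rw [hval]
    refine congrArg _ ?_
    conv_rhs => rw [← pow_one g]
    exact pow_eq_pow_iff_modEq.mpr (hk2.of_dvd hdvd)
  refine ⟨ψ, ?_, σ, fun _ => rfl, hpow⟩
  set B := principalBlock M G with hBdef
  have hB : IsPBlock M B := isPBlock_blockOf (principal G)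
  have h1 : omega (ψ : G → ℂ) (blockElem B) = omega (χ : G → ℂ) (blockElem B) := by
    simp only [omega, chiEval, Finset.sum_div]
    refine Finset.sum_congr rfl fun g _ => ?_
    rw [fn_blockElem]
    by_cases hg : p ∣ orderOf g
    · rw [blockCoeff_eq_zero_of_singular hM hB hg]; simp
    · rw [hreg g hg, hreg 1 (by rw [orderOf_one]; exact hp.not_dvd_one)]
  rw [omega_blockElem, omega_blockElem, if_pos hχ] at h1
  by_contra hψ
  rw [if_neg hψ] at h1
  exact zero_ne_one h1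

/-- the arithmetic of the bound on one character: `5 ≤ p` -/
theorem bound_large {p m k : ℤ} (hp : 5 ≤ p) (hk : 0 < k) (hm : m ^ 2 ≤ p * k ^ 2) : 2 * m ≤ m + p * k := by
  nlinarith [mul_pos (show (0 : ℤ) < p by omega) hk, sq_nonneg (m - p * k), mul_le_mul_of_nonneg_right
    (show p ≤ p * p by nlinarith) (sq_nonneg k)]

/-- the arithmetic of the bound on one character: `p = 3` -/
theorem bound_three {m k : ℤ} (hk : 0 < k) (hm : m ^ 2 ≤ 3 * k ^ 2) : 5 * m ≤ 9 * k := by
  nlinarith [sq_nonneg (5 * m - 9 * k), mul_pos hk hk]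

set_option maxHeartbeats 4000000 in
theorem core [IsSimpleGroup G] (hG : ¬ IsMulCommutative G) (P : Sylow p G) (hP : IsCyclic ↥(P : Subgroup G))
    (hdvd : p ∣ Nat.card G)
    (hc : ∀ x y : G, orderOf x = p → orderOf y = p → IsPSolvable p ↥(Subgroup.closure ({x, y} : Set G))) :
    False := by
  classical
  have hp := (Fact.out : p.Prime)
  letI : Fintype G := Fintype.ofFinite G
  obtain ⟨M, hM⟩ := Cfsg.Lib.Blocks.exists_isPModular hp
  have hPne : (P : Subgroup G) ≠ ⊥ := by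
    intro h
    exact P.not_dvd_index (by rw [h, Subgroup.index_bot]; exact hdvd)
  obtain ⟨⟨u, huP⟩, hgen⟩ := hP.exists_monoid_generator
  have hu1 : u ≠ 1 := by
    intro h
    refine hPne (le_bot_iff.mp fun y hy => ?_)
    obtain ⟨i, hi⟩ := hgen ⟨y, hy⟩
    have : u ^ i = y := congrArg Subtype.val hi
    rw [Subgroup.mem_bot, ← this, h, one_pow]
  obtain ⟨e', he'⟩ := IsPGroup.iff_card.mp P.isPGroup'
  obtain ⟨e'', -, hou⟩ := (Nat.dvd_prime_pow hp).mp
    (show orderOf u ∣ p ^ e' by rw [← he', ← Subgroup.orderOf_mk _ huP]; exact orderOf_dvd_natCard _)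
  obtain ⟨r, rfl⟩ : ∃ r, e'' = r + 1 := by
    refine Nat.exists_eq_succ_of_ne_zero fun h => hu1 ?_
    rwa [h, pow_zero, orderOf_eq_one_iff] at hou
  set q := Nat.card (P : Subgroup G) with hq
  have hqr : q = p ^ (r + 1) := by
    refine le_antisymm ?_ (hou ▸ (Nat.le_of_dvd Nat.card_pos
      (by rw [← Subgroup.orderOf_mk _ huP]; exact orderOf_dvd_natCard _)))
    have hsub : (P : Subgroup G) ≤ Subgroup.zpowers u := fun y hy => by
      obtain ⟨i, hi⟩ := hgen ⟨y, hy⟩
      have hiy : u ^ i = y := congrArg Subtype.val hi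
      exact hiy ▸ Subgroup.npow_mem_zpowers u i
    have := Subgroup.card_le_of_le hsub
    rwa [Nat.card_zpowers, hou] at this
  obtain ⟨x, hxdef⟩ : ∃ x, x = u ^ p ^ r := ⟨_, rfl⟩
  have hx : orderOf x = p := by
    rw [hxdef, orderOf_pow' _ (pow_pos hp.pos r).ne', hou,
      Nat.gcd_eq_right (pow_dvd_pow p (Nat.le_succ r)), pow_succ, Nat.mul_div_cancel_left _ (pow_pos hp.pos r)]
  have hxP : x ∈ (P : Subgroup G) := hxdef ▸ Subgroup.pow_mem _ huP _
  set J := Finset.Icc 1 (p - 1) with hJ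
  have hJmem : ∀ j ∈ J, ¬ p ∣ j := fun j hj => by
    obtain ⟨h1, h2⟩ := Finset.mem_Icc.mp hj
    exact Nat.not_dvd_of_pos_of_lt h1 (by omega)
  have hordj : ∀ j ∈ J, orderOf (x ^ j) = p := fun j hj => by
    rw [orderOf_pow' _ (fun h : j = 0 => hJmem j hj (h ▸ dvd_zero p)), hx,
      Nat.Coprime.gcd_eq_one ((hp.coprime_iff_not_dvd).2 (hJmem j hj)), Nat.div_one]
  -- every element of order `p` is conjugate to a power of `x`
  have hall : ∀ v : G, orderOf v = p → ∃ i ∈ J, IsConj (x ^ i) v := by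
    intro v hv
    have hvp : IsPGroup p (Subgroup.zpowers v) := IsPGroup.of_card (n := 1) (by rw [Nat.card_zpowers, hv, pow_one])
    obtain ⟨S, hS⟩ := hvp.exists_le_sylow
    obtain ⟨g, hg⟩ := MulAction.exists_smul_eq G S P
    have hgv : g * v * g⁻¹ ∈ (P : Subgroup G) := by
      rw [← hg, Sylow.coe_subgroup_smul]
      exact Subgroup.smul_mem_pointwise_smul v (MulAut.conj g) _ (hS (Subgroup.mem_zpowers v))
    have hgvp : (g * v * g⁻¹) ^ p = 1 := by
      rw [conj_pow, ← hv, pow_orderOf_eq_one]; group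
    have hmem := mem_zpowers_of_pow_eq_one hP hx hxP hgv hgvp
    rw [← mem_powers_iff_mem_zpowers] at hmem
    obtain ⟨i, hi⟩ := hmem
    have hi' : x ^ (i % p) = g * v * g⁻¹ := by rw [← hx, pow_mod_orderOf]; exact hi
    refine ⟨i % p, Finset.mem_Icc.mpr ⟨Nat.pos_of_ne_zero fun h => ?_, ?_⟩, isConj_iff.mpr ⟨g⁻¹, by rw [hi']; group⟩⟩
    · rw [h, pow_zero] at hi'
      have : v = 1 := by simpa using hi'.symm
      rw [this, orderOf_one] at hv
      exact hp.ne_one hv.symm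
    · have := Nat.mod_lt i hp.pos; omega
  -- the fusion number
  set e := fus p x 1 with he
  have he2 : 2 ≤ e := by
    by_contra hlt
    have hfix : ∀ c ∈ Subgroup.normalizer ((P : Subgroup G) : Set G), c * x * c⁻¹ = x := by
      intro c hc'
      have hcxP : c * x * c⁻¹ ∈ (P : Subgroup G) := (Subgroup.mem_normalizer_iff.mp hc' x).mp hxP
      have hmem := mem_zpowers_of_pow_eq_one hP hx hxP hcxP (by rw [conj_pow, ← hx, pow_orderOf_eq_one]; group)
      rw [← mem_powers_iff_mem_zpowers] at hmem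
      obtain ⟨i, hi⟩ := hmem
      have hi' : x ^ (i % p) = c * x * c⁻¹ := by rw [← hx, pow_mod_orderOf]; exact hi
      by_contra hne
      refine hlt ?_
      have h1 : 1 ∈ fusSet p x 1 :=
        mem_fusSet.mpr ⟨Finset.mem_Icc.mpr ⟨le_rfl, by have := hp.two_le; omega⟩, IsConj.refl _⟩
      have hipos : i % p ≠ 0 := fun h => by
        rw [h, pow_zero] at hi'
        have : x = 1 := by simpa using hi'.symm
        rw [this, orderOf_one] at hx
        exact hp.ne_one hx.symm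
      have h2 : i % p ∈ fusSet p x 1 :=
        mem_fusSet.mpr ⟨Finset.mem_Icc.mpr ⟨Nat.pos_of_ne_zero hipos, by have := Nat.mod_lt i hp.pos; omega⟩,
          isConj_iff.mpr ⟨c, by rw [pow_one]; exact hi'.symm⟩⟩
      have h12 : (1 : ℕ) ≠ i % p := fun h => hne (by rw [← hi', ← h, pow_one])
      rw [he]
      unfold fus
      exact Finset.one_lt_card.mpr ⟨1, h1, i % p, h2, h12⟩
    obtain ⟨N, hN, -, hidx⟩ := Cfsg.Lib.PermGen.burnside_complement P
      (fun c hc' => centralizes_of_fix P hP hx hxP hc' (hfix c hc'))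
    have hq1 : 1 < q := by rw [hqr]; exact Nat.one_lt_pow (by omega) hp.one_lt
    rcases hN.eq_bot_or_eq_top with h | h
    · rw [h, Subgroup.index_bot] at hidx
      have htop : (P : Subgroup G) = ⊤ := Subgroup.eq_top_of_card_eq _ hidx.symm
      exact hG ⟨⟨fun a b => comm_of_isPGroup P hP P.isPGroup' a (htop ▸ Subgroup.mem_top a) b (htop ▸ Subgroup.mem_top b)⟩⟩
    · rw [h, Subgroup.index_top, ← hq] at hidx
      omega
  have hep : e ≤ p - 1 := by
    refine (Finset.card_le_card fun j hj => (mem_fusSet.mp hj).1).trans ?_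
    rw [Nat.card_Icc]; omega
  have hp3 : 3 ≤ p := by omega
  -- the column of `x ^ j` on the section of `x ^ i`
  set B := principalBlock M G with hBdef
  have hB : IsPBlock M B := isPBlock_blockOf (principal G)
  set C := Subgroup.centralizer ({x} : Set G) with hC
  letI : Fintype C := Fintype.ofFinite C
  obtain ⟨N, hNn, hNp, hNidx, hPC⟩ := centralizer_complement P hP hx hxP
  haveI := hNn
  rw [← hq] at hNidx
  have hcol : ∀ i ∈ J, ∀ j ∈ J, ∀ c : C, ¬ p ∣ orderOf c →
      colKer B (x ^ i * c) (x ^ j) = if IsConj (x ^ i) (x ^ j) then (q : ℂ) else 0 := by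
    intro i hi j hj c hc'
    have hik : ∃ k, orderOf (x ^ i) = p ^ k := ⟨1, by rw [pow_one, hordj i hi]⟩
    split_ifs with hij
    · obtain ⟨g, hg⟩ := isConj_iff.mp hij
      rw [← hg, colKer_conj_right]
      have hH : C = Subgroup.centralizer (Subgroup.zpowers (x ^ i) : Set G) := by
        rw [centralizer_zpowers]
        ext y
        simp only [hC, Subgroup.mem_centralizer_singleton_iff]
        refine ⟨fun h => (Commute.pow_right h i).eq, fun h => ?_⟩
        obtain ⟨t, ht⟩ := exists_pow_eq_self_of_coprime (x := x) (n := i)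
          (by rw [hx]; exact ((hp.coprime_iff_not_dvd).2 (hJmem i hi)).symm)
        rw [← ht]
        exact (Commute.pow_right h t).eq
      have h1 : ¬ p ∣ orderOf (1 : C) := by rw [orderOf_one]; exact hp.not_dvd_one
      have h := colKer_section hM hik hH hB hc' h1
      rw [filter_induced_principal hM hik hH, Finset.sum_singleton, OneMemClass.coe_one, mul_one] at h
      rw [h, colKer_eq, ← hNidx, ← sum_sq_trivial_on N]
      refine Finset.sum_congr ?_ fun ψ hψ => ?_
      · ext ψ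
        simp only [Finset.mem_filter, Finset.mem_univ, true_and]
        exact mem_principalBlock_iff hM N hNp (hNidx.trans hqr) ψ
      · rw [(Finset.mem_filter.mp hψ).2 c (mem_of_pRegular_of_index_eq_pow hp N (hNidx.trans hqr) hc'),
          irr_apply_one_eq_deg, Complex.conj_natCast]
    · have hcomm : Commute (x ^ i) (c : G) :=
        (show Commute (c : G) x from Subgroup.mem_centralizer_singleton_iff.mp c.2).symm.pow_left i
      rw [colKer_eq]
      exact block_orthogonality_conj hM hB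
        (isPPart_mul hcomm hik (by rw [Subgroup.orderOf_coe]; exact hc'))
        (isPPart_self hp ⟨1, by rw [pow_one, hordj j hj]⟩) hij
  let F : G → ℂ := fun z => ∑ j ∈ J, colKer B z (x ^ j)
  have hFcl : ∀ z g : G, F (g * z * g⁻¹) = F z := fun z g => Finset.sum_congr rfl fun j _ => by
    rw [← conj_colKer, colKer_conj_right, conj_colKer]
  have hF0 : ∀ z : G, ¬ p ∣ orderOf z → F z = 0 := fun z hz => Finset.sum_eq_zero fun j hj => by
    rw [colKer_eq]
    exact block_orthogonality_regular hM hB hz (hordj j hj ▸ dvd_refl p)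
  have hFsec : ∀ i ∈ J, ∀ c : C, ¬ p ∣ orderOf c → F (x ^ i * c) = ((e * q : ℕ) : ℂ) := by
    intro i hi c hc'
    show ∑ j ∈ J, colKer B (x ^ i * c) (x ^ j) = _
    rw [Finset.sum_congr rfl fun j hj => hcol i hi j hj c hc', ← Finset.sum_filter, Finset.sum_const, nsmul_eq_mul,
      show (J.filter fun j => IsConj (x ^ i) (x ^ j)).card = fus p x i from
        congrArg Finset.card (Finset.ext fun j => by rw [Finset.mem_filter, mem_fusSet]),
      fus_eq hx (hJmem i hi), ← he, Nat.cast_mul]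
  have hF1 : ∀ z : G, p ∣ orderOf z → ¬ p ∣ orderOf (z ^ p) → F z = ((e * q : ℕ) : ℂ) := by
    intro z hz hzp
    obtain ⟨v, hv⟩ := exists_isPPart' hp z
    have hv1 : v ≠ 1 := fun h => (isPPart_one_iff hp).mp (h ▸ hv) hz
    obtain ⟨c, hcz, hcomm, ⟨a, ha⟩, hcreg⟩ := hv
    have hvp : orderOf v = p := by
      refine orderOf_eq_prime ?_ hv1
      have h1 : IsPPart p (z ^ p) (v ^ p) := by
        obtain ⟨b, -, hb⟩ := (Nat.dvd_prime_pow hp).mp (ha ▸ orderOf_pow_dvd p : orderOf (v ^ p) ∣ p ^ a)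
        exact ⟨c ^ p, by rw [← hcz, hcomm.mul_pow], (hcomm.pow_left p).pow_right p, ⟨b, hb⟩,
          fun h => hcreg (h.trans (orderOf_pow_dvd p))⟩
      exact IsPPart.eq hp h1 ((isPPart_one_iff hp).mpr hzp)
    obtain ⟨i, hi, hiv⟩ := hall v hvp
    obtain ⟨g, hg⟩ := isConj_iff.mp hiv.symm
    have hcom' : Commute (g * c * g⁻¹) (x ^ i) := by
      rw [← hg]; exact (hcomm.symm.map (MulAut.conj g).toMonoidHom)
    have hmem : g * c * g⁻¹ ∈ C := by
      rw [hC, Subgroup.mem_centralizer_singleton_iff]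
      obtain ⟨t, ht⟩ := exists_pow_eq_self_of_coprime (x := x) (n := i)
        (by rw [hx]; exact ((hp.coprime_iff_not_dvd).2 (hJmem i hi)).symm)
      rw [← ht]
      exact (hcom'.pow_right t).eq
    rw [← hFcl z g, show g * z * g⁻¹ = x ^ i * (⟨_, hmem⟩ : C) by rw [← hcz, ← hg]; group]
    refine hFsec i hi _ ?_
    rw [← Subgroup.orderOf_coe, show (((⟨_, hmem⟩ : C)) : G) = MulAut.conj g c from rfl,
      MulEquiv.orderOf_eq]
    exact hcreg
  -- the degrees and the sums `m`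
  have han := fun χ : IrrCharacter G =>
    analyse (isCharacter_of_irr χ.2) hp u hou (irr_apply_one_eq_deg χ)
  choose n hnle hsum hker hsupp hne hE using han
  let d : IrrCharacter G → ℕ := fun χ => deg (χ : G → ℂ)
  let m : IrrCharacter G → ℤ := fun χ => (p : ℤ) * n χ - d χ
  have hm : ∀ χ : IrrCharacter G, ∑ j ∈ J, (χ : G → ℂ) (x ^ j) = ((m χ : ℤ) : ℂ) := fun χ => by
    simp only [m, d]; rw [hxdef]; push_cast; exact hsum χ
  have hnlt : ∀ χ : IrrCharacter G, χ ≠ principal G → n χ < d χ := by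
    intro χ hχ
    refine lt_of_le_of_ne (hnle χ) fun heq => hχ ?_
    have hxker : x ∈ kerSubgroup (χ : G → ℂ) (isCharacter_of_irr χ.2) :=
      (mem_kerSubgroup (isCharacter_of_irr χ.2) x).mpr (hxdef ▸ hker χ heq)
    rcases (kerSubgroup_normal (isCharacter_of_irr χ.2)).eq_bot_or_eq_top with hk | hk
    · rw [hk, Subgroup.mem_bot] at hxker
      rw [hxker, orderOf_one] at hx
      exact absurd hx.symm hp.ne_one
    · have hconst : ∀ a, (χ : G → ℂ) a = (deg (χ : G → ℂ) : ℂ) := fun a =>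
        ((mem_kerSubgroup (isCharacter_of_irr χ.2) a).mp (hk ▸ Subgroup.mem_top a)).trans (irr_apply_one_eq_deg χ)
      have h1 := classInner_irr_self χ
      rw [classInner_def] at h1
      simp only [hconst, Complex.conj_natCast, Finset.sum_const, Finset.card_univ, nsmul_eq_mul,
        ← Nat.card_eq_fintype_card] at h1
      rw [inv_mul_cancel_left₀ (Nat.cast_ne_zero.2 Nat.card_pos.ne')] at h1
      have h2 : deg (χ : G → ℂ) * deg (χ : G → ℂ) = 1 := by exact_mod_cast h1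
      refine Subtype.ext (funext fun a => ?_)
      rw [hconst a, (mul_eq_one.mp h2).1]
      simp [principal]
  set s := Finset.univ.filter (· ∈ B) with hs
  have hFexp : ∀ z, F z = ∑ χ ∈ s, (χ : G → ℂ) z * ((m χ : ℤ) : ℂ) := by
    intro z
    simp only [F, colKer_eq]
    rw [Finset.sum_comm]
    refine Finset.sum_congr rfl fun χ _ => ?_
    rw [← Finset.mul_sum, ← map_sum, hm, map_intCast]
  set Q := (p - 1) * e * q with hQ
  have hsum2 : ∑ χ ∈ s, m χ ^ 2 = (Q : ℤ) := by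
    have h1 : ∑ i ∈ J, F (x ^ i) = ((Q : ℤ) : ℂ) := by
      rw [Finset.sum_congr rfl fun i hi => show F (x ^ i) = ((e * q : ℕ) : ℂ) by
        have := hFsec i hi 1 (by rw [orderOf_one]; exact hp.not_dvd_one)
        rwa [OneMemClass.coe_one, mul_one] at this]
      rw [Finset.sum_const, nsmul_eq_mul, hJ, Nat.card_Icc, hQ, show p - 1 + 1 - 1 = p - 1 by omega]
      push_cast; ring
    simp only [hFexp] at h1
    rw [Finset.sum_comm] at h1
    have h2 : ((∑ χ ∈ s, m χ ^ 2 : ℤ) : ℂ) = ((Q : ℤ) : ℂ) := by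
      rw [← h1, Int.cast_sum]
      refine Finset.sum_congr rfl fun χ _ => ?_
      rw [← Finset.sum_mul, hm]
      push_cast; ring
    exact_mod_cast h2
  have hsum1 : ∑ χ ∈ s, m χ * (d χ : ℤ) = 0 := by
    have h := hF0 1 (by rw [orderOf_one]; exact hp.not_dvd_one)
    rw [hFexp] at h
    have : ((∑ χ ∈ s, m χ * (d χ : ℤ) : ℤ) : ℂ) = ((0 : ℤ) : ℂ) := by
      push_cast
      rw [← h]
      exact Finset.sum_congr rfl fun χ _ => by rw [irr_apply_one_eq_deg]; simp only [d]; ring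
    exact_mod_cast this
  have hprinc : principal G ∈ s := Finset.mem_filter.mpr ⟨Finset.mem_univ _, mem_blockOf_self hM (principal G)⟩
  have hd1 : d (principal G) = 1 := by
    have := irr_apply_one_eq_deg (principal G)
    simp only [principal] at this
    exact_mod_cast this.symm
  have hm1 : m (principal G) = (p : ℤ) - 1 := by
    have := hm (principal G)
    simp only [principal, Finset.sum_const, nsmul_eq_mul, mul_one, hJ, Nat.card_Icc] at this
    rw [show p - 1 + 1 - 1 = p - 1 by omega] at this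
    have h' : ((p - 1 : ℕ) : ℤ) = m (principal G) := by exact_mod_cast this
    rw [← h', Nat.cast_sub hp.one_lt.le]; norm_num
  obtain ⟨χ₀, hχ₀, hneg⟩ : ∃ χ ∈ s, m χ < 0 := by
    by_contra hno
    push Not at hno
    have h1 : m (principal G) * (d (principal G) : ℤ) ≤ ∑ χ ∈ s, m χ * (d χ : ℤ) :=
      Finset.single_le_sum (f := fun χ => m χ * (d χ : ℤ))
        (fun χ hχ => mul_nonneg (hno χ hχ) (Nat.cast_nonneg _)) hprinc
    rw [hsum1, hm1, hd1] at h1
    push_cast at h1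
    omega
  have hne₀ : χ₀ ≠ principal G := fun h => by rw [h, hm1] at hneg; omega
  -- the bound on a single character
  have hkey : ∀ χ ∈ s, χ ≠ principal G → m χ ^ 2 ≤ (p : ℤ) * ((d χ : ℤ) - n χ) ^ 2 ∧
      2 ≤ d χ - n χ ∧ (0 < m χ → m χ ^ 2 + ((p : ℤ) - 1) ^ 2 + 1 ≤ (Q : ℤ)) := by
    intro χ hχ hχ1
    have hlt := hnlt χ hχ1
    have hinv : ∀ j ∈ fusSet p x 1, ∀ t : ℕ,
        (χ : G → ℂ) (x ^ (j * t)) = (χ : G → ℂ) (x ^ t) := by
      intro j hj t
      obtain ⟨g, hg⟩ := isConj_iff.mp (mem_fusSet.mp hj).2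
      rw [pow_one] at hg
      rw [pow_mul, ← hg, conj_pow]
      exact isClassFunction_irr χ _ g
    have hek : e ≤ d χ - n χ := hE χ _ (fun j hj => (mem_fusSet.mp hj).1) (by rw [← hxdef]; exact hinv) hlt
    obtain ⟨w0, hw0⟩ := hne χ hlt
    -- Galois conjugates
    have htw : ∀ k : ℕ, ∃ ψ : IrrCharacter G, k.Coprime p → ψ ∈ s ∧ ψ ≠ principal G ∧ m ψ = m χ ∧ d ψ = d χ ∧
        w0 ^ k ∈ supp (ψ : G → ℂ) u (p ^ (r + 1)) := by
      intro k
      by_cases hk : k.Coprime p
      swap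
      · exact ⟨χ, fun h => absurd h hk⟩
      obtain ⟨ψ, hψ, σ, hσ, hψp⟩ := exists_twist hM (Finset.mem_filter.mp hχ).2 hk
      refine ⟨ψ, fun _ => ⟨Finset.mem_filter.mpr ⟨Finset.mem_univ _, hψ⟩, ?_, ?_, ?_, ?_⟩⟩
      · intro h
        refine hχ1 (Subtype.ext (funext fun g => σ.injective ?_))
        have h1 := hσ g
        rw [h] at h1
        rw [← h1]
        simp [principal]
      · have h1 := hm ψ
        simp only [hσ, ← map_sum, hm, map_intCast] at h1
        exact_mod_cast h1.symm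
      · have h1 := irr_apply_one_eq_deg ψ
        rw [hσ, irr_apply_one_eq_deg, map_natCast] at h1
        simp only [d]
        exact_mod_cast h1.symm
      · refine pow_mem_supp (isCharacter_of_irr χ.2) hp hou hk (fun t => ?_) hw0
        rw [pow_mul]
        refine hψp _ ?_
        obtain ⟨b, -, hb⟩ := (Nat.dvd_prime_pow hp).mp
          (show orderOf (u ^ t) ∣ p ^ (r + 1) from hou ▸ orderOf_pow_dvd t)
        exact ⟨b, hb⟩
    choose T hT using htw
    set K := (Finset.range (p ^ (r + 1))).filter (p ^ (r + 1)).Coprime with hK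
    have hKc : ∀ k ∈ K, k.Coprime p := fun k hk =>
      ((Finset.mem_filter.mp hk).2.symm).coprime_dvd_right (dvd_pow_self p (Nat.succ_ne_zero r))
    set S := K.image T with hS
    have hw0' : IsPrimitiveRoot w0 (p ^ (r + 1)) := by
      simp only [supp, Finset.mem_filter] at hw0
      exact (mem_primitiveRoots (pow_pos hp.pos _)).mp hw0.1
    have hcount : (p ^ (r + 1)).totient ≤ S.card * (d χ - n χ) := by
      have h1 : K.image (fun k => w0 ^ k) ⊆ S.biUnion (fun ψ => supp (ψ : G → ℂ) u (p ^ (r + 1))) := by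
        intro w hw
        obtain ⟨k, hk, rfl⟩ := Finset.mem_image.mp hw
        exact Finset.mem_biUnion.mpr ⟨T k, Finset.mem_image_of_mem T hk, (hT k (hKc k hk)).2.2.2.2⟩
      have h2 := Finset.card_le_card h1
      rw [Finset.card_image_of_injOn (fun a ha b hb h => hw0'.pow_inj
        (Finset.mem_range.mp (Finset.mem_filter.mp ha).1) (Finset.mem_range.mp (Finset.mem_filter.mp hb).1) h)] at h2
      rw [Nat.totient_eq_card_coprime]
      refine h2.trans (Finset.card_biUnion_le_card_mul _ _ _ fun ψ hψ => ?_)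
      obtain ⟨k, hk, rfl⟩ := Finset.mem_image.mp hψ
      obtain ⟨-, -, hmk, hdk, -⟩ := hT k (hKc k hk)
      refine (hsupp (T k)).trans (le_of_eq ?_)
      have hnk : n (T k) = n χ := by
        simp only [m] at hmk
        rw [hdk] at hmk
        have h' : (p : ℤ) * n (T k) = (p : ℤ) * n χ := by linarith
        exact_mod_cast mul_left_cancel₀ (by exact_mod_cast hp.pos.ne') h'
      rw [hnk]
      show d (T k) - n χ = d χ - n χ
      rw [hdk]
    have hSle : (S.card : ℤ) * m χ ^ 2 ≤ Q := by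
      rw [← hsum2, ← nsmul_eq_mul, ← Finset.sum_const]
      calc ∑ _ψ ∈ S, m χ ^ 2 = ∑ ψ ∈ S, m ψ ^ 2 := Finset.sum_congr rfl fun ψ hψ => by
            obtain ⟨k, hk, rfl⟩ := Finset.mem_image.mp hψ
            rw [(hT k (hKc k hk)).2.2.1]
        _ ≤ ∑ χ ∈ s, m χ ^ 2 := Finset.sum_le_sum_of_subset_of_nonneg (fun ψ hψ => by
            obtain ⟨k, hk, rfl⟩ := Finset.mem_image.mp hψ
            exact (hT k (hKc k hk)).1) (fun _ _ _ => sq_nonneg _)
    refine ⟨?_, he2.trans hek, fun hpos => ?_⟩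
    · rw [Nat.totient_prime_pow hp (Nat.succ_pos r), Nat.succ_sub_one] at hcount
      have h1 : ((p : ℤ) ^ r * ((p : ℤ) - 1)) ≤ (S.card : ℤ) * ((d χ : ℤ) - n χ) := by
        have := (Int.ofNat_le.mpr hcount)
        push_cast [Nat.cast_sub hlt.le, Nat.cast_sub hp.one_lt.le] at this
        linarith
      have hk0 : (0 : ℤ) ≤ (d χ : ℤ) - n χ := by
        have : (n χ : ℤ) ≤ d χ := by exact_mod_cast hlt.le
        linarith
      have hp1 : (0 : ℤ) < (p : ℤ) - 1 := by omega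
      have h2 : ((p : ℤ) ^ r * ((p : ℤ) - 1)) * m χ ^ 2 ≤ ((d χ : ℤ) - n χ) * Q :=
        calc ((p : ℤ) ^ r * ((p : ℤ) - 1)) * m χ ^ 2 ≤ (S.card : ℤ) * ((d χ : ℤ) - n χ) * m χ ^ 2 :=
              mul_le_mul_of_nonneg_right h1 (sq_nonneg _)
          _ = ((d χ : ℤ) - n χ) * ((S.card : ℤ) * m χ ^ 2) := by ring
          _ ≤ _ := mul_le_mul_of_nonneg_left hSle hk0
      have hQ' : (Q : ℤ) = ((p : ℤ) ^ r * ((p : ℤ) - 1)) * ((p : ℤ) * e) := by
        rw [hQ, hqr]; push_cast [Nat.cast_sub hp.one_lt.le]; ring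
      rw [hQ'] at h2
      have h3 : m χ ^ 2 ≤ ((d χ : ℤ) - n χ) * ((p : ℤ) * e) :=
        le_of_mul_le_mul_left (h2.trans (le_of_eq (by ring))) (by positivity)
      refine h3.trans ?_
      have hek' : (e : ℤ) ≤ (d χ : ℤ) - n χ := by
        have := Int.ofNat_le.mpr hek
        push_cast [Nat.cast_sub hlt.le] at this
        linarith
      calc ((d χ : ℤ) - n χ) * ((p : ℤ) * e) = ((d χ : ℤ) - n χ) * (p : ℤ) * e := by ring
        _ ≤ ((d χ : ℤ) - n χ) * (p : ℤ) * ((d χ : ℤ) - n χ) :=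
          mul_le_mul_of_nonneg_left hek' (mul_nonneg hk0 (Nat.cast_nonneg _))
        _ = _ := by ring
    · have hχne : χ ≠ χ₀ := fun h => by rw [h] at hpos; omega
      rw [← hsum2, ← Finset.add_sum_erase _ _ hprinc, hm1,
        ← Finset.add_sum_erase _ _ (Finset.mem_erase.mpr ⟨hne₀, hχ₀⟩)]
      have h1 : m χ ^ 2 ≤ ∑ ψ ∈ (s.erase (principal G)).erase χ₀, m ψ ^ 2 :=
        Finset.single_le_sum (f := fun ψ => m ψ ^ 2) (fun _ _ => sq_nonneg _)
          (Finset.mem_erase.mpr ⟨hχne, Finset.mem_erase.mpr ⟨hχ1, hχ⟩⟩)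
      have h2 : 1 ≤ m χ₀ ^ 2 := by nlinarith
      linarith
  -- the slope
  obtain ⟨a, b, hb, ha, hslope, hfin⟩ : ∃ a b : ℤ, 0 < b ∧ 0 ≤ a ∧
      (∀ χ ∈ s, χ ≠ principal G → b * m χ * ((p : ℤ) - 1) ≤ a * (((p : ℤ) - 1) * d χ)) ∧
      b * ((p : ℤ) - 1) ^ 3 + a * ((Q : ℤ) - ((p : ℤ) - 1) ^ 2) ≤ b * ((p : ℤ) - 2) * Q := by
    have hd : ∀ χ, ((p : ℤ) - 1) * d χ = m χ + (p : ℤ) * ((d χ : ℤ) - n χ) := fun χ => by simp only [m]; ring
    have hQlow : 2 * (((p : ℤ) - 1) * p) ≤ Q := by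
      rw [hQ]; push_cast [Nat.cast_sub hp.one_lt.le]
      have hq' : (p : ℤ) ≤ q := by
        rw [hqr]; exact_mod_cast Nat.le_self_pow (Nat.succ_ne_zero r) p
      have he' : (2 : ℤ) ≤ e := by exact_mod_cast he2
      have hp1 : (0 : ℤ) ≤ (p : ℤ) - 1 := by omega
      calc 2 * (((p : ℤ) - 1) * p) = ((p : ℤ) - 1) * (2 * p) := by ring
        _ ≤ ((p : ℤ) - 1) * (e * q) := mul_le_mul_of_nonneg_left (mul_le_mul he' hq' (by omega) (by omega)) hp1
        _ = _ := by ring
    rcases Nat.lt_or_ge p 4 with hlt4 | hge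
    · have hp3' : p = 3 := by omega
      have he3 : e = 2 := by omega
      rcases Nat.eq_zero_or_pos r with hr | hr
      · -- `q = 3`
        have hQ12 : (Q : ℤ) = 12 := by rw [hQ, hqr, hr, he3, hp3']; norm_num
        refine ⟨1, 2, by norm_num, by norm_num, fun χ hχ hχ1 => ?_, by rw [hQ12, hp3']; norm_num⟩
        obtain ⟨-, hk, hpos⟩ := hkey χ hχ hχ1
        rw [hd, hp3']
        have hk' : (2 : ℤ) ≤ (d χ : ℤ) - n χ := by omega
        push_cast
        rcases le_or_gt (m χ) 0 with hle | hgt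
        · linarith
        · have := hpos hgt
          rw [hQ12, hp3'] at this
          push_cast at this
          have : m χ ≤ 2 := by nlinarith
          linarith
      · refine ⟨3, 4, by norm_num, by norm_num, fun χ hχ hχ1 => ?_, ?_⟩
        · obtain ⟨hm2, hk, -⟩ := hkey χ hχ hχ1
          rw [hd, hp3']
          rw [hp3'] at hm2
          push_cast at hm2 ⊢
          have := bound_three (show (0 : ℤ) < (d χ : ℤ) - n χ by omega) hm2
          linarith
        · have h36 : (36 : ℤ) ≤ Q := by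
            have hq9 : 9 ≤ q := by
              rw [hqr, hp3']
              calc 9 = 3 ^ 2 := by norm_num
                _ ≤ 3 ^ (r + 1) := Nat.pow_le_pow_right (by norm_num) (by omega)
            rw [hQ, hp3', he3]
            push_cast
            omega
          rw [hp3']
          push_cast
          linarith
    · have hp5 : (5 : ℤ) ≤ p := by
        have h4 : p ≠ 4 := fun h => by rw [h] at hp; norm_num at hp
        omega
      refine ⟨(p : ℤ) - 1, 2, by norm_num, by omega, fun χ hχ hχ1 => ?_, ?_⟩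
      · obtain ⟨hm2, hk, -⟩ := hkey χ hχ hχ1
        rw [hd]
        have := bound_large hp5 (show (0 : ℤ) < (d χ : ℤ) - n χ by omega) hm2
        have hp1 : (0 : ℤ) ≤ (p : ℤ) - 1 := by omega
        nlinarith [mul_le_mul_of_nonneg_left this hp1]
      · nlinarith [mul_le_mul_of_nonneg_left hQlow (show (0 : ℤ) ≤ (p : ℤ) - 3 by omega)]
  -- counting
  set D := (Finset.univ : Finset G) ×ˢ J with hD
  let el : G × ℕ → G := fun t => t.1 * x ^ t.2 * t.1⁻¹
  have hel : ∀ t ∈ D, orderOf (el t) = p := fun t ht => by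
    show orderOf (MulAut.conj t.1 (x ^ t.2)) = p
    rw [MulEquiv.orderOf_eq, hordj _ (Finset.mem_product.mp ht).2]
  set R := (D ×ˢ D).filter (fun t => ¬ p ∣ orderOf (el t.1 * el t.2)) with hR
  have hcount : (Nat.card G : ℝ) ^ 2 * ∑ χ ∈ s, (m χ : ℝ) ^ 3 / (d χ : ℝ) =
      (e * q : ℕ) * ((D.card : ℝ) ^ 2 - (R.card : ℝ)) := by
    have h1 : ∑ t ∈ D ×ˢ D, F (el t.1 * el t.2) = ((e * q : ℕ) : ℂ) * ((D.card : ℂ) ^ 2 - (R.card : ℂ)) := by
      rw [← Finset.sum_filter_add_sum_filter_not (D ×ˢ D) (fun t => ¬ p ∣ orderOf (el t.1 * el t.2))]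
      rw [Finset.sum_eq_zero (fun t ht => hF0 _ (Finset.mem_filter.mp ht).2), zero_add,
        Finset.sum_congr rfl (fun t ht => hF1 _ (not_not.mp (Finset.mem_filter.mp ht).2) (by
          obtain ⟨ha', hb'⟩ := Finset.mem_product.mp (Finset.mem_filter.mp ht).1
          exact (pair_facts P hP (hel _ ha') (hel _ hb') (hc _ _ (hel _ ha') (hel _ hb'))).1)),
        Finset.sum_const, nsmul_eq_mul]
      have := Finset.card_filter_add_card_filter_not (s := D ×ˢ D) (fun t => ¬ p ∣ orderOf (el t.1 * el t.2))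
      rw [← hR, Finset.card_product] at this
      have hc2 : ((D.card : ℂ)) ^ 2 = (R.card : ℂ) +
          (((D ×ˢ D).filter fun t => ¬¬ p ∣ orderOf (el t.1 * el t.2)).card : ℂ) := by
        rw [pow_two]; exact_mod_cast this.symm
      rw [hc2]; ring
    have h2 : ∑ t ∈ D ×ˢ D, F (el t.1 * el t.2) =
        ∑ χ ∈ s, ((Nat.card G : ℂ) ^ 2 * ((m χ : ℤ) : ℂ) ^ 3 / (d χ : ℂ)) := by
      simp only [hFexp]
      rw [Finset.sum_comm]
      refine Finset.sum_congr rfl fun χ _ => ?_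
      rw [← Finset.sum_mul, Finset.sum_product]
      have h3 : ∀ t : G × ℕ, ∑ t' ∈ D, (χ : G → ℂ) (el t' * el t) =
          (Nat.card G : ℂ) * ((m χ : ℤ) : ℂ) * (χ : G → ℂ) (x ^ t.2) / (d χ : ℂ) := by
        intro t
        rw [hD, Finset.sum_product_right, ← hm]
        simp only [el, sum_conj_mul χ.2, isClassFunction_irr χ (x ^ t.2) t.1, irr_apply_one_eq_deg, Finset.mul_sum,
          Finset.sum_mul, Finset.sum_div, d]
      rw [Finset.sum_comm, Finset.sum_congr rfl fun t _ => h3 t, hD, Finset.sum_product]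
      simp only [← Finset.sum_div, ← Finset.mul_sum, hm, Finset.sum_const, Finset.card_univ, nsmul_eq_mul,
        ← Nat.card_eq_fintype_card]
      ring
    rw [h1] at h2
    have : (((Nat.card G : ℝ) ^ 2 * ∑ χ ∈ s, (m χ : ℝ) ^ 3 / (d χ : ℝ) : ℝ) : ℂ) =
        ((((e * q : ℕ) : ℝ) * ((D.card : ℝ) ^ 2 - (R.card : ℝ)) : ℝ) : ℂ) := by
      push_cast
      rw [Finset.mul_sum]
      push_cast at h2
      rw [h2]
      exact Finset.sum_congr rfl fun χ _ => by ring
    exact_mod_cast this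
  have hfew : R.card * (p - 1) ≤ D.card * D.card := by
    rw [show p - 1 = J.card by rw [hJ, Nat.card_Icc]; omega, ← Finset.card_product, ← Finset.card_product]
    refine Finset.card_le_card_of_injOn (fun t => (t.1.1, (t.1.2.1, t.1.2.2 * t.2 % p))) ?_ ?_
    · rintro ⟨⟨a', ⟨g, j⟩⟩, k⟩ ht
      obtain ⟨ht, hk⟩ := Finset.mem_product.mp (Finset.mem_coe.mp ht)
      obtain ⟨ha', hb'⟩ := Finset.mem_product.mp (Finset.mem_filter.mp ht).1
      refine Finset.mem_coe.mpr (Finset.mem_product.mpr ⟨ha', Finset.mem_product.mpr ⟨Finset.mem_univ _, ?_⟩⟩)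
      refine Finset.mem_Icc.mpr ⟨Nat.pos_of_ne_zero fun h => ?_, ?_⟩
      · exact (hp.dvd_mul.mp (Nat.dvd_of_mod_eq_zero h)).elim (hJmem j (Finset.mem_product.mp hb').2) (hJmem k hk)
      · show j * k % p ≤ p - 1
        have := Nat.mod_lt (j * k) hp.pos; omega
    · rintro ⟨⟨a', ⟨g, j⟩⟩, k⟩ h ⟨⟨a'', ⟨g', j'⟩⟩, k'⟩ h' heq
      simp only [Prod.mk.injEq] at heq
      obtain ⟨rfl, rfl, hjk⟩ := heq
      obtain ⟨h, hk⟩ := Finset.mem_product.mp (Finset.mem_coe.mp h)
      obtain ⟨h, hr₁⟩ := Finset.mem_filter.mp h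
      obtain ⟨ha', hb₁⟩ := Finset.mem_product.mp h
      obtain ⟨h', hk'⟩ := Finset.mem_product.mp (Finset.mem_coe.mp h')
      obtain ⟨h', hr₂⟩ := Finset.mem_filter.mp h'
      obtain ⟨-, hb₂⟩ := Finset.mem_product.mp h'
      obtain ⟨l, -, hl⟩ := Nat.exists_mul_mod_eq_one_of_coprime ((hp.coprime_iff_not_dvd).2 (hJmem k' hk')).symm hp.one_lt
      have hb'eq : el (g, j') = el (g, j) ^ (k * l) := by
        show g * x ^ j' * g⁻¹ = (g * x ^ j * g⁻¹) ^ (k * l)
        rw [conj_pow, ← pow_mul]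
        refine congrArg (fun v => g * v * g⁻¹) (pow_eq_pow_iff_modEq.mpr ?_)
        rw [hx]
        calc j' = j' * 1 := (mul_one _).symm
          _ ≡ j' * (k' * l) [MOD p] := (Nat.ModEq.mul_left _ (by
              show 1 % p = k' * l % p
              rw [hl, Nat.mod_eq_of_lt hp.one_lt]))
          _ = j' * k' * l := (mul_assoc _ _ _).symm
          _ ≡ j * k * l [MOD p] := (Nat.ModEq.mul_right _ (hjk.symm))
          _ = j * (k * l) := mul_assoc _ _ _
      have hkl := (pair_facts P hP (hel _ ha') (hel _ hb₁) (hc _ _ (hel _ ha') (hel _ hb₁))).2 (k * l) hr₁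
        (by rw [← hb'eq]; exact hr₂)
      have hk'' := (Finset.mem_product.mp hb₁).2
      have hj'' := (Finset.mem_product.mp hb₂).2
      have hkk : k = k' := by
        have h1 : k * l ≡ k' * l [MOD p] := hkl.trans hl.symm
        have hl' : ¬ p ∣ l := fun h => by
          rw [Nat.mod_eq_zero_of_dvd (dvd_mul_of_dvd_right h k')] at hl
          exact zero_ne_one hl
        have h2 := Nat.ModEq.cancel_right_of_coprime ((hp.coprime_iff_not_dvd).2 hl') h1
        obtain ⟨h3, h4⟩ := Finset.mem_Icc.mp hk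
        obtain ⟨h5, h6⟩ := Finset.mem_Icc.mp hk'
        exact h2.eq_of_lt_of_lt (by omega) (by omega)
      subst hkk
      have h2 := Nat.ModEq.cancel_right_of_coprime ((hp.coprime_iff_not_dvd).2 (hJmem k hk)) hjk
      have h4 : j ≤ p - 1 := (Finset.mem_Icc.mp hk'').2
      have h6 : j' ≤ p - 1 := (Finset.mem_Icc.mp hj'').2
      have hp0 : 0 < p := hp.pos
      rw [h2.eq_of_lt_of_lt (by omega) (by omega)]
  -- the contradiction
  have hDcard : (D.card : ℝ) = (Nat.card G : ℝ) * ((p : ℝ) - 1) := by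
    rw [hD, Finset.card_product, Finset.card_univ, Nat.card_eq_fintype_card, hJ, Nat.card_Icc,
      show p - 1 + 1 - 1 = p - 1 by omega, Nat.cast_mul, Nat.cast_sub hp.one_lt.le, Nat.cast_one]
  have hp2R : (3 : ℝ) ≤ p := by exact_mod_cast hp3
  have hG0 : (0 : ℝ) < (Nat.card G : ℝ) := by exact_mod_cast Nat.card_pos
  have hlow : ((p : ℝ) - 2) * (Q : ℝ) ≤ ∑ χ ∈ s, (m χ : ℝ) ^ 3 / (d χ : ℝ) := by
    have h1 : (R.card : ℝ) * ((p : ℝ) - 1) ≤ (D.card : ℝ) ^ 2 := by
      have h' : ((R.card * (p - 1) : ℕ) : ℝ) ≤ ((D.card * D.card : ℕ) : ℝ) := by exact_mod_cast hfew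
      push_cast [Nat.cast_sub hp.one_lt.le] at h'
      rw [pow_two]; exact h'
    have h2 : (0 : ℝ) ≤ ((e * q : ℕ) : ℝ) := Nat.cast_nonneg _
    have h3 := mul_le_mul_of_nonneg_left h1 h2
    have hQR : (Q : ℝ) = ((p : ℝ) - 1) * ((e * q : ℕ) : ℝ) := by
      rw [hQ]; push_cast [Nat.cast_sub hp.one_lt.le]; ring
    rw [hQR]
    refine le_of_mul_le_mul_left ?_ (mul_pos (pow_pos hG0 2) (show (0 : ℝ) < (p : ℝ) - 1 by linarith))
    rw [mul_comm ((Nat.card G : ℝ) ^ 2) ((p : ℝ) - 1), mul_assoc ((p : ℝ) - 1) _ (∑ χ ∈ s, _), hcount]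
    rw [hDcard] at h3 ⊢
    nlinarith
  have hhigh : (b : ℝ) * ∑ χ ∈ s, (m χ : ℝ) ^ 3 / (d χ : ℝ) <
      (b : ℝ) * ((p : ℝ) - 1) ^ 3 + (a : ℝ) * ((Q : ℝ) - ((p : ℝ) - 1) ^ 2) := by
    have hmemχ : χ₀ ∈ s.erase (principal G) := Finset.mem_erase.mpr ⟨hne₀, hχ₀⟩
    have hterm : ∀ χ ∈ s.erase (principal G), (b : ℝ) * ((m χ : ℝ) ^ 3 / (d χ : ℝ)) ≤ (a : ℝ) * (m χ : ℝ) ^ 2 ∧
        (χ = χ₀ → (b : ℝ) * ((m χ : ℝ) ^ 3 / (d χ : ℝ)) < (a : ℝ) * (m χ : ℝ) ^ 2) := by
      intro χ hχ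
      obtain ⟨hχ1, hχs⟩ := Finset.mem_erase.mp hχ
      have hd0 : (0 : ℝ) < (d χ : ℝ) := by exact_mod_cast deg_irr_pos χ
      have h1 : b * m χ ≤ a * d χ := by
        have := hslope χ hχs hχ1
        exact le_of_mul_le_mul_right (this.trans (le_of_eq (by ring))) (show (0 : ℤ) < (p : ℤ) - 1 by omega)
      have h1' : (b : ℝ) * (m χ : ℝ) ≤ (a : ℝ) * (d χ : ℝ) := by exact_mod_cast h1
      refine ⟨?_, fun heq => ?_⟩
      · rw [mul_div_assoc', div_le_iff₀ hd0]
        nlinarith [mul_le_mul_of_nonneg_left h1' (sq_nonneg (m χ : ℝ))]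
      · have hneg' : (m χ : ℝ) < 0 := by rw [heq]; exact_mod_cast hneg
        have hbR : (0 : ℝ) < (b : ℝ) := by exact_mod_cast hb
        have haR : (0 : ℝ) ≤ (a : ℝ) := by exact_mod_cast ha
        have hcube : (m χ : ℝ) ^ 3 < 0 := by
          have := mul_pos (mul_pos (neg_pos.mpr hneg') (neg_pos.mpr hneg')) (neg_pos.mpr hneg')
          nlinarith
        exact lt_of_lt_of_le (mul_neg_of_pos_of_neg hbR (div_neg_of_neg_of_pos hcube hd0))
          (mul_nonneg haR (sq_nonneg _))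
    have h2 : ∑ χ ∈ s.erase (principal G), (m χ : ℝ) ^ 2 = (Q : ℝ) - ((p : ℝ) - 1) ^ 2 := by
      have h' : ((∑ χ ∈ s.erase (principal G), m χ ^ 2 : ℤ) : ℝ) = (((Q : ℤ) - ((p : ℤ) - 1) ^ 2 : ℤ) : ℝ) := by
        congr 1
        rw [← hsum2, ← Finset.add_sum_erase _ _ hprinc, hm1]; ring
      push_cast at h'
      exact h'
    rw [← Finset.add_sum_erase _ _ hprinc, hm1, hd1, mul_add, Finset.mul_sum, ← h2, Finset.mul_sum]
    push_cast
    rw [div_one]
    exact add_lt_add_of_le_of_lt le_rfl (Finset.sum_lt_sum (fun χ hχ => (hterm χ hχ).1)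
      ⟨χ₀, hmemχ, (hterm χ₀ hmemχ).2 rfl⟩)
  have hfinR : (b : ℝ) * ((p : ℝ) - 1) ^ 3 + (a : ℝ) * ((Q : ℝ) - ((p : ℝ) - 1) ^ 2) ≤ (b : ℝ) * ((p : ℝ) - 2) * Q := by
    exact_mod_cast hfin
  have hbR : (0 : ℝ) ≤ (b : ℝ) := by exact_mod_cast hb.le
  nlinarith [mul_le_mul_of_nonneg_left hlow hbR]

end Cfsg.Lib.CyclicPair
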