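import Cfsg.Agent.Blocks.FongFullDefect
import Cfsg.Agent.Blocks.PPart
import Cfsg.Agent.Components.PComponents
import Cfsg.Agent.Coprime.Fitting
import Cfsg.Agent.PLocal.Constrained
import Cfsg.Agent.PermGen.AltPair
import Mathlib

/-!
Cyclic Sylow subgroups: elements of order `p` and pairs of them.
-/

set_option autoImplicit false
set_option linter.unusedSectionVars false
set_option linter.style.haveILetI false

namespace Cfsg.Lib.CyclicPair

open Cfsg

universe u

variable {G : Type u} [Group G] [Finite G] {p : ℕ} [Fact p.Prime]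

theorem isCyclic_of_isPGroup (P : Sylow p G) (hP : IsCyclic ↥(P : Subgroup G)) {Q : Subgroup G} (hQ : IsPGroup p Q) :
    IsCyclic Q := by
  obtain ⟨S, hS⟩ := hQ.exists_le_sylow
  haveI : IsCyclic ↥(S : Subgroup G) := (S.equiv P).isCyclic.mpr hP
  exact isCyclic_of_injective (Subgroup.inclusion hS) (Subgroup.inclusion_injective hS)

theorem comm_of_isPGroup (P : Sylow p G) (hP : IsCyclic ↥(P : Subgroup G)) {Q : Subgroup G} (hQ : IsPGroup p Q) :
    ∀ a ∈ Q, ∀ b ∈ Q, a * b = b * a := by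
  intro a ha b hb
  haveI := isCyclic_of_isPGroup P hP hQ
  exact congrArg Subtype.val ((IsCyclic.commutative (α := Q)).1.comm ⟨a, ha⟩ ⟨b, hb⟩)

/-- in a cyclic group the elements killed by `p` are the powers of one of order `p` -/
theorem mem_zpowers_of_pow_eq_one {Q : Subgroup G} (hQ : IsCyclic Q) {x u : G} (hx : orderOf x = p) (hxQ : x ∈ Q)
    (hu : u ∈ Q) (hup : u ^ p = 1) : u ∈ Subgroup.zpowers x := by
  classical
  haveI := Fintype.ofFinite Q
  set a : Q := ⟨x, hxQ⟩ with ha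
  have hoa : orderOf a = p := by rw [← hx]; exact (Subgroup.orderOf_coe a).symm
  have hcard := IsCyclic.card_pow_eq_one_le (α := Q) (Fact.out : p.Prime).pos
  set s := Finset.univ.filter (fun b : Q => b ^ p = 1) with hs
  have hsub : (Finset.range p).image (fun i => a ^ i) ⊆ s := by
    intro b hb
    obtain ⟨i, -, rfl⟩ := Finset.mem_image.mp hb
    rw [hs, Finset.mem_filter]
    exact ⟨Finset.mem_univ _, by rw [← pow_mul, mul_comm, pow_mul, ← hoa, pow_orderOf_eq_one, one_pow]⟩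
  have hc : ((Finset.range p).image (fun i => a ^ i)).card = p := by
    rw [Finset.card_image_of_injOn, Finset.card_range]
    intro i hi j hj h
    exact pow_injOn_Iio_orderOf (by simpa [hoa] using hi) (by simpa [hoa] using hj) h
  have heq := Finset.eq_of_subset_of_card_le hsub (by rw [hc]; exact hcard)
  have hus : (⟨u, hu⟩ : Q) ∈ s := Finset.mem_filter.mpr ⟨Finset.mem_univ _, Subtype.ext hup⟩
  rw [← heq] at hus
  obtain ⟨i, -, hi⟩ := Finset.mem_image.mp hus
  exact ⟨i, by have := congrArg Subtype.val hi; simpa using this⟩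

/-- an element normalizing a cyclic Sylow subgroup and fixing its elements of order `p` centralizes it -/
theorem centralizes_of_fix (P : Sylow p G) (hP : IsCyclic ↥(P : Subgroup G)) {x : G} (hx : orderOf x = p)
    (hxP : x ∈ (P : Subgroup G)) {c : G} (hc : c ∈ Subgroup.normalizer ((P : Subgroup G) : Set G))
    (hcx : c * x * c⁻¹ = x) : c ∈ Subgroup.centralizer ((P : Subgroup G) : Set G) := by
  have hp := (Fact.out : p.Prime)
  obtain ⟨⟨u, huP⟩, hgen⟩ := hP.exists_monoid_generator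
  have hmem : ∀ y ∈ (P : Subgroup G), ∃ i : ℕ, y = u ^ i := fun y hy => by
    obtain ⟨i, hi⟩ := hgen ⟨y, hy⟩
    exact ⟨i, (congrArg Subtype.val hi).symm⟩
  obtain ⟨e, he⟩ := (P.isPGroup') ⟨u, huP⟩ |> fun ⟨e, he⟩ => (⟨e, congrArg Subtype.val he⟩ : ∃ e, u ^ p ^ e = 1)
  obtain ⟨k, hk⟩ := hmem _ ((Subgroup.mem_normalizer_iff.mp hc u).mp huP)
  -- `c` fixes `x`, so `k ≡ 1 [MOD p]`
  obtain ⟨i, hi⟩ := hmem x hxP
  have hxk : x ^ k = x := by
    rw [hi, ← pow_mul, mul_comm, pow_mul, ← hk, conj_pow, ← hi, hcx]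
  have hk1 : p ∣ k - 1 ∧ 1 ≤ k := by
    have hk0 : 1 ≤ k := by
      by_contra h0
      have : k = 0 := by omega
      rw [this, pow_zero] at hxk
      rw [← hxk, orderOf_one] at hx
      exact hp.ne_one hx.symm
    refine ⟨?_, hk0⟩
    have := pow_eq_pow_iff_modEq.mp (show x ^ k = x ^ 1 by rw [pow_one, hxk])
    rw [hx] at this
    exact (Nat.modEq_iff_dvd' hk0).mp this.symm
  have hpow : ∀ s : ℕ, c ^ s * u * (c ^ s)⁻¹ = u ^ k ^ s := by
    intro s
    induction s with
    | zero => simp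
    | succ s ih =>
      calc c ^ (s + 1) * u * (c ^ (s + 1))⁻¹ = c * (c ^ s * u * (c ^ s)⁻¹) * c⁻¹ := by rw [pow_succ']; group
        _ = (c * u * c⁻¹) ^ k ^ s := by rw [ih, conj_pow]
        _ = _ := by rw [hk, ← pow_mul, pow_succ']
  have hks : k ^ p ^ e ≡ 1 [MOD p ^ e] := by
    have h1 : ((p : ℕ) : ℤ) ∣ (k : ℤ) - 1 := by
      have := Int.natCast_dvd_natCast.mpr hk1.1
      rwa [Nat.cast_sub hk1.2] at this
    have h2 := dvd_sub_pow_of_dvd_sub h1 e
    rw [one_pow] at h2
    rw [Nat.modEq_iff_dvd]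
    have h3 : ((p ^ e : ℕ) : ℤ) ∣ (k : ℤ) ^ p ^ e - 1 := by
      push_cast at h2 ⊢
      exact (pow_dvd_pow _ (Nat.le_succ e)).trans h2
    push_cast at h3 ⊢
    have h4 := h3.neg_right
    rwa [neg_sub] at h4
  have hcs : c ^ p ^ e ∈ Subgroup.centralizer ((P : Subgroup G) : Set G) := by
    rw [Subgroup.mem_centralizer_iff]
    intro y hy
    obtain ⟨j, rfl⟩ := hmem y hy
    have : c ^ p ^ e * u * (c ^ p ^ e)⁻¹ = u := by
      rw [hpow]
      conv_rhs => rw [← pow_one u]
      exact pow_eq_pow_iff_modEq.mpr (hks.of_dvd (orderOf_dvd_of_pow_eq_one he))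
    have hcu : Commute (c ^ p ^ e) u := mul_inv_eq_iff_eq_mul.mp this
    exact (hcu.pow_right j).eq.symm
  -- split off the `p`-part
  obtain ⟨s, y, hy, hyc, ⟨f, hf⟩, hyp⟩ := Cfsg.Lib.Blocks.exists_isPPart hp c
  have hsN : c ^ s ∈ Subgroup.normalizer ((P : Subgroup G) : Set G) := Subgroup.pow_mem _ hc s
  have hsP : c ^ s ∈ (P : Subgroup G) := by
    have hz : IsPGroup p (Subgroup.zpowers (c ^ s)) := IsPGroup.of_card (n := f) (by rw [Nat.card_zpowers, hf])
    have h := hz.to_sup_of_normal_right' P.isPGroup' (Subgroup.zpowers_le.mpr hsN)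
    exact (P.is_maximal' h le_sup_right) ▸ Subgroup.mem_sup_left (Subgroup.mem_zpowers _)
  have hsC : c ^ s ∈ Subgroup.centralizer ((P : Subgroup G) : Set G) :=
    Subgroup.mem_centralizer_iff.mpr fun y hy => comm_of_isPGroup P hP P.isPGroup' y hy _ hsP
  have hye : y ^ p ^ e ∈ Subgroup.centralizer ((P : Subgroup G) : Set G) := by
    have : y = (c ^ s)⁻¹ * c := eq_inv_mul_of_mul_eq hy
    rw [this, ((Commute.pow_self c s).inv_left).mul_pow]
    exact Subgroup.mul_mem _ (Subgroup.pow_mem _ (Subgroup.inv_mem _ hsC) _) hcs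
  obtain ⟨t, ht⟩ := exists_pow_eq_self_of_coprime (x := y) (n := p ^ e)
    (((hp.coprime_iff_not_dvd).2 hyp).pow_left e)
  rw [← hy]
  exact Subgroup.mul_mem _ hsC (ht ▸ Subgroup.pow_mem _ hye t)

/-- the centralizer of an element of order `p` has a normal `p`-complement -/
theorem centralizer_complement (P : Sylow p G) (hP : IsCyclic ↥(P : Subgroup G)) {x : G} (hx : orderOf x = p)
    (hxP : x ∈ (P : Subgroup G)) :
    ∃ N : Subgroup ↥(Subgroup.centralizer ({x} : Set G)), N.Normal ∧ ¬ p ∣ Nat.card N ∧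
      N.index = Nat.card (P : Subgroup G) ∧ (P : Subgroup G) ≤ Subgroup.centralizer ({x} : Set G) := by
  set C := Subgroup.centralizer ({x} : Set G) with hC
  have hPC : (P : Subgroup G) ≤ C := fun a ha =>
    Subgroup.mem_centralizer_singleton_iff.mpr (comm_of_isPGroup P hP P.isPGroup' a ha x hxP)
  let Q : Sylow p C := P.subtype hPC
  have hQ : (Q : Subgroup C) = (P : Subgroup G).subgroupOf C := rfl
  have hcard : Nat.card (Q : Subgroup C) = Nat.card (P : Subgroup G) := by
    rw [hQ]; exact Nat.card_congr (Subgroup.subgroupOfEquivOfLe hPC).toEquiv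
  have hn : Subgroup.normalizer ((Q : Subgroup C) : Set C) ≤ Subgroup.centralizer ((Q : Subgroup C) : Set C) := by
    intro c hc
    have hcx : (c : G) * x * (c : G)⁻¹ = x := by
      rw [Subgroup.mem_centralizer_singleton_iff.mp c.2, mul_inv_cancel_right]
    have hcn : (c : G) ∈ Subgroup.normalizer ((P : Subgroup G) : Set G) := by
      rw [Subgroup.mem_normalizer_iff]
      intro y
      constructor
      · intro hy
        have := (Subgroup.mem_normalizer_iff.mp hc ⟨y, hPC hy⟩).mp (by rw [hQ]; exact hy)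
        rw [hQ] at this
        exact this
      · intro hy
        have hyC : y ∈ C := by
          have := C.mul_mem (C.mul_mem (C.inv_mem c.2) (hPC hy)) c.2
          rwa [show (c : G)⁻¹ * ((c : G) * y * (c : G)⁻¹) * c = y by group] at this
        have := (Subgroup.mem_normalizer_iff.mp hc ⟨y, hyC⟩).mpr (by rw [hQ]; exact hy)
        rw [hQ] at this
        exact this
    have := centralizes_of_fix P hP hx hxP hcn hcx
    rw [Subgroup.mem_centralizer_iff] at this ⊢
    intro y hy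
    rw [hQ] at hy
    exact Subtype.ext (this y hy)
  obtain ⟨N, hN, hmul, hidx⟩ := Cfsg.Lib.PermGen.burnside_complement Q hn
  refine ⟨N, hN, ?_, hidx.trans hcard, hPC⟩
  have hcN : Nat.card N = (Q : Subgroup C).index := by
    have h := (Q : Subgroup C).card_mul_index
    rw [← hmul, mul_comm (Nat.card N)] at h
    exact (Nat.eq_of_mul_eq_mul_left Nat.card_pos h).symm
  rw [hcN]
  exact Q.not_dvd_index

/-- pairs of elements of order `p` generating a `p`-solvable group -/
theorem pair_facts (P : Sylow p G) (hP : IsCyclic ↥(P : Subgroup G)) {x y : G} (hx : orderOf x = p) (hy : orderOf y = p)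
    (hs : IsPSolvable p ↥(Subgroup.closure ({x, y} : Set G))) :
    (¬ p ∣ orderOf ((x * y) ^ p)) ∧
      ∀ k : ℕ, ¬ p ∣ orderOf (x * y) → ¬ p ∣ orderOf (x * y ^ k) → k % p = 1 := by
  have hp := (Fact.out : p.Prime)
  have hab := fun (Q : Subgroup G) (hQ : IsPGroup p Q) => comm_of_isPGroup P hP hQ
  set H := Subgroup.closure ({x, y} : Set G) with hH
  let xH : H := ⟨x, Subgroup.subset_closure (Set.mem_insert _ _)⟩
  let yH : H := ⟨y, Subgroup.subset_closure (Set.mem_insert_of_mem _ rfl)⟩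
  let π := QuotientGroup.mk' (pPrimeCore p H)
  have hπ : Function.Surjective π := QuotientGroup.mk'_surjective _
  have hsol : IsPSolvable p (H ⧸ pPrimeCore p H) := Cfsg.Lib.Constraint.isPSolvable_of_surjective hπ hs
  have hC := Cfsg.Lib.Blocks.centralizer_pCore_le_of_isPSolvable p hsol Cfsg.Lib.Components.pPrimeCore_quotient_eq_bot
  have hsyl : ∀ S : Sylow p (H ⧸ pPrimeCore p H), (S : Subgroup (H ⧸ pPrimeCore p H)) ≤ pCore p _ ∧
      ∀ a ∈ (S : Subgroup (H ⧸ pPrimeCore p H)), ∀ b ∈ (S : Subgroup (H ⧸ pPrimeCore p H)), a * b = b * a := by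
    intro S
    obtain ⟨S₀, rfl⟩ := Sylow.mapSurjective_surjective hπ p S
    have hcomm : ∀ a ∈ ((S₀.mapSurjective hπ : Sylow p _) : Subgroup (H ⧸ pPrimeCore p H)),
        ∀ b ∈ ((S₀.mapSurjective hπ : Sylow p _) : Subgroup (H ⧸ pPrimeCore p H)), a * b = b * a := by
      rintro _ ⟨a, ha, rfl⟩ _ ⟨b, hb, rfl⟩
      rw [← map_mul, ← map_mul]
      exact congrArg π (Subtype.ext
        (hab ((S₀ : Subgroup H).map H.subtype) (S₀.isPGroup'.map _) a ⟨a, ha, rfl⟩ b ⟨b, hb, rfl⟩))
    refine ⟨fun a ha => hC (Subgroup.mem_centralizer_iff.mpr fun b hb => ?_), hcomm⟩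
    exact hcomm b (Cfsg.Lib.Coprime.pCore_le_sylow p (S₀.mapSurjective hπ) hb) a ha
  have hdvd : ∀ a : H, orderOf (π a) ∣ orderOf (a : G) := fun a =>
    (orderOf_map_dvd π a).trans (dvd_of_eq (Subgroup.orderOf_coe a).symm)
  have hmem : ∀ a : H, orderOf (a : G) = p → π a ∈ pCore p (H ⧸ pPrimeCore p H) := by
    intro a ha
    have hpa : IsPGroup p (Subgroup.zpowers (π a)) := by
      obtain ⟨j, -, hj⟩ := (Nat.dvd_prime_pow hp).mp
        (show orderOf (π a) ∣ p ^ 1 from (hdvd a).trans (dvd_of_eq (ha.trans (pow_one p).symm)))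
      exact IsPGroup.of_card (n := j) (by rw [Nat.card_zpowers, hj])
    obtain ⟨S, hS⟩ := hpa.exists_le_sylow
    exact (hsyl S).1 (hS (Subgroup.mem_zpowers _))
  have hmx := hmem xH hx
  have hmy := hmem yH hy
  have hxy : π xH * π yH = π yH * π xH := by
    obtain ⟨S⟩ : Nonempty (Sylow p (H ⧸ pPrimeCore p H)) := inferInstance
    exact (hsyl S).2 _ (Cfsg.Lib.Coprime.pCore_le_sylow p S hmx) _ (Cfsg.Lib.Coprime.pCore_le_sylow p S hmy)
  have hxp : π xH ^ p = 1 := orderOf_dvd_iff_pow_eq_one.mp ((hdvd xH).trans (dvd_of_eq hx))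
  have hyp : π yH ^ p = 1 := orderOf_dvd_iff_pow_eq_one.mp ((hdvd yH).trans (dvd_of_eq hy))
  have hreg : ∀ a : H, ¬ p ∣ orderOf (a : G) → π a ∈ pCore p (H ⧸ pPrimeCore p H) → π a = 1 := by
    intro a ha ham
    obtain ⟨j, hj'⟩ := Cfsg.Lib.Components.isPGroup_pCore (G := H ⧸ pPrimeCore p H) p ⟨π a, ham⟩
    have hj : (π a) ^ p ^ j = 1 := congrArg Subtype.val hj'
    rw [← orderOf_eq_one_iff]
    exact Nat.eq_one_of_dvd_coprimes (((hp.coprime_iff_not_dvd).2 ha).pow_left j)
      (orderOf_dvd_of_pow_eq_one hj) (hdvd a)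
  have hK : ∀ a : H, π a = 1 → ¬ p ∣ orderOf (a : G) := by
    intro a ha hd
    have haK : a ∈ pPrimeCore p H := (QuotientGroup.eq_one_iff _).mp ha
    have := Nat.Coprime.coprime_dvd_left
      (show orderOf (a : G) ∣ Nat.card (pPrimeCore p H) by
        rw [Subgroup.orderOf_coe, ← Subgroup.orderOf_mk _ haK]; exact orderOf_dvd_natCard _)
      (Cfsg.Lib.Components.coprime_card_pPrimeCore p)
    exact (hp.coprime_iff_not_dvd.mp this.symm) hd
  refine ⟨?_, fun k h1 h2 => ?_⟩
  · refine hK ((xH * yH) ^ p) ?_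
    rw [map_pow, map_mul, Commute.mul_pow hxy, hxp, hyp, one_mul]
  · have e1 := hreg (xH * yH) h1 (by rw [map_mul]; exact Subgroup.mul_mem _ hmx hmy)
    have e2 := hreg (xH * yH ^ k) h2 (by rw [map_mul, map_pow]; exact Subgroup.mul_mem _ hmx (Subgroup.pow_mem _ hmy k))
    have hx1 : π xH ≠ 1 := fun h => hK xH h (dvd_of_eq hx.symm)
    have hox : orderOf (π xH) = p :=
      ((Nat.dvd_prime hp).mp (orderOf_dvd_of_pow_eq_one hxp)).resolve_left (by rwa [orderOf_eq_one_iff])
    rw [map_mul] at e1 e2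
    rw [map_pow, eq_inv_of_mul_eq_one_right e1, inv_pow, mul_inv_eq_one] at e2
    have := pow_eq_pow_iff_modEq.mp (show π xH ^ k = π xH ^ 1 by rw [pow_one]; exact e2.symm)
    rw [hox] at this
    unfold Nat.ModEq at this
    rwa [Nat.mod_eq_of_lt hp.one_lt] at this

end Cfsg.Lib.CyclicPair
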