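import Cfsg.Agent.Components.CyclicPair.Core
import Cfsg.Agent.Blocks.ItoDegrees
import Cfsg.Agent.SolvStruct.CoprimeOrbits
import Cfsg.Agent.Transfer.Basic
import Mathlib

/-!
`p`-solvability of a group with a cyclic Sylow `p`-subgroup is detected on pairs of elements of order `p`.
-/

set_option autoImplicit false
set_option linter.unusedSectionVars false
set_option linter.style.haveILetI false

namespace Cfsg.Lib.CyclicPair

open Cfsg

universe u

variable {p : ℕ} [Fact p.Prime]

theorem isPSolvable_of_not_dvd {G : Type u} [Group G] [Finite G] (h : ¬ p ∣ Nat.card G) : IsPSolvable p G :=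
  Cfsg.Lib.Blocks.isPSolvable_of_normal_pPrime (⊤ : Subgroup G)
    (by rw [Subgroup.card_top]; exact ((Fact.out : p.Prime).coprime_iff_not_dvd.2 h).symm) ⟨0, by simp⟩

theorem isPSolvable_of_iso {G H : Type u} [Group G] [Group H] [Finite G] (e : G ≃* H) (h : IsPSolvable p G) :
    IsPSolvable p H :=
  Cfsg.Lib.Constraint.isPSolvable_of_surjective (f := e.toMonoidHom) e.surjective h

set_option maxHeartbeats 1000000 in
theorem main_aux : ∀ (N : ℕ) (G : Type u) [Group G] [Finite G], Nat.card G = N →
    ∀ (P : Sylow p G), IsCyclic ↥(P : Subgroup G) →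
      (∀ x y : G, orderOf x = p → orderOf y = p → IsPSolvable p ↥(Subgroup.closure ({x, y} : Set G))) →
      IsPSolvable p G := by
  intro N
  induction N using Nat.strong_induction_on with
  | _ N ih =>
  intro G _ _ hN P hP hc
  subst hN
  have hp := (Fact.out : p.Prime)
  by_cases hdvd : p ∣ Nat.card G
  swap
  · exact isPSolvable_of_not_dvd hdvd
  by_cases hK : pPrimeCore p G = ⊥
  swap
  · -- pass to the quotient
    set K := pPrimeCore p G with hKdef
    haveI : K.Normal := Cfsg.Lib.Components.pPrimeCore_normal' p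
    have hKc : (Nat.card K).Coprime p := Cfsg.Lib.Components.coprime_card_pPrimeCore p
    refine Cfsg.Lib.Blocks.isPSolvable_extend K (Or.inr hKc) ?_
    let π := QuotientGroup.mk' K
    have hπ : Function.Surjective π := QuotientGroup.mk'_surjective _
    refine ih (Nat.card (G ⧸ K)) ?_ (G ⧸ K) rfl (P.mapSurjective hπ) ?_ ?_
    · rw [← Subgroup.index_eq_card, ← Subgroup.index_mul_card K]
      exact lt_mul_of_one_lt_right (Nat.pos_of_ne_zero Subgroup.index_ne_zero_of_finite)
        ((Subgroup.one_lt_card_iff_ne_bot K).2 hK)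
    · haveI := hP
      exact isCyclic_of_surjective (π.subgroupMap (P : Subgroup G)) (π.subgroupMap_surjective _)
    · have lift : ∀ v : G ⧸ K, orderOf v = p → ∃ a : G, π a = v ∧ orderOf a = p := by
        intro v hv
        obtain ⟨a, rfl⟩ := hπ v
        obtain ⟨a', c, hc', hcomm, ⟨k, hk⟩, hcr⟩ := Cfsg.Lib.Blocks.exists_isPPart' hp a
        have h1 : Cfsg.IsPPart p (π a) (π a') := by
          obtain ⟨b, -, hb⟩ := (Nat.dvd_prime_pow hp).mp (hk ▸ orderOf_map_dvd π a' : orderOf (π a') ∣ p ^ k)
          exact ⟨π c, by rw [← map_mul, hc'], hcomm.map π, ⟨b, hb⟩, fun h => hcr (h.trans (orderOf_map_dvd π c))⟩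
        have heq : π a' = π a :=
          Cfsg.Lib.Blocks.IsPPart.eq hp h1 (Cfsg.Lib.Blocks.isPPart_self hp ⟨1, by rw [pow_one, hv]⟩)
        refine ⟨a', heq, ?_⟩
        have ha1 : a' ≠ 1 := by
          intro h
          rw [← heq, h, map_one, orderOf_one] at hv
          exact hp.ne_one hv.symm
        refine orderOf_eq_prime ?_ ha1
        have hmem : a' ^ p ∈ K := by
          rw [← QuotientGroup.eq_one_iff]
          show π (a' ^ p) = 1
          rw [map_pow, heq, ← hv, pow_orderOf_eq_one]
        obtain ⟨b, -, hb⟩ := (Nat.dvd_prime_pow hp).mp (hk ▸ orderOf_pow_dvd p : orderOf (a' ^ p) ∣ p ^ k)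
        rw [← orderOf_eq_one_iff]
        refine Nat.eq_one_of_dvd_coprimes ((hKc.pow_right b).symm) (dvd_of_eq hb) ?_
        rw [← Subgroup.orderOf_mk _ hmem]
        exact orderOf_dvd_natCard _
      intro v w hv hw
      obtain ⟨a, rfl, ha⟩ := lift v hv
      obtain ⟨b, rfl, hb⟩ := lift w hw
      have hmap : (Subgroup.closure ({a, b} : Set G)).map π = Subgroup.closure ({π a, π b} : Set (G ⧸ K)) := by
        rw [MonoidHom.map_closure, Set.image_pair]
      exact hmap ▸ Cfsg.Lib.Constraint.isPSolvable_of_surjective (π.subgroupMap_surjective _) (hc a b ha hb)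
  -- an element of order `p` in `P`
  have hPne : (P : Subgroup G) ≠ ⊥ := by
    intro h
    exact P.not_dvd_index (by rw [h, Subgroup.index_bot]; exact hdvd)
  obtain ⟨⟨x, hxP⟩, hx'⟩ := exists_prime_orderOf_dvd_card' (G := (P : Subgroup G)) p (by
    obtain ⟨k, hk⟩ := IsPGroup.iff_card.mp P.isPGroup'
    have hk0 : k ≠ 0 := fun h => by
      rw [h, pow_zero] at hk
      exact hPne (Subgroup.card_eq_one.mp hk)
    rw [hk]
    exact dvd_pow_self p hk0)
  have hx : orderOf x = p := by rw [← hx', ← Subgroup.orderOf_coe]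
  by_cases hO : pCore p G = ⊥
  swap
  · -- `⟨x⟩` is normal
    have hQP := Cfsg.Lib.Coprime.pCore_le_sylow p P
    haveI : (pCore p G).Normal := Cfsg.Lib.Components.pCore_normal' p
    obtain ⟨⟨y, hyQ⟩, hy'⟩ := exists_prime_orderOf_dvd_card' (G := pCore p G) p (by
      obtain ⟨k, hk⟩ := IsPGroup.iff_card.mp (Cfsg.Lib.Components.isPGroup_pCore (G := G) p)
      have hk0 : k ≠ 0 := fun h => by
        rw [h, pow_zero] at hk
        exact hO (Subgroup.card_eq_one.mp hk)
      rw [hk]
      exact dvd_pow_self p hk0)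
    have hy : orderOf y = p := by rw [← hy', ← Subgroup.orderOf_coe]
    have hxQ : x ∈ pCore p G := by
      have h1 := mem_zpowers_of_pow_eq_one hP hy (hQP hyQ) hxP (by rw [← hx, pow_orderOf_eq_one])
      exact Subgroup.zpowers_le.mpr hyQ h1
    have hXn : (Subgroup.zpowers x).Normal := by
      refine ⟨fun z hz g => ?_⟩
      have hzQ : g * z * g⁻¹ ∈ pCore p G :=
        Subgroup.Normal.conj_mem inferInstance z (Subgroup.zpowers_le.mpr hxQ hz) g
      refine mem_zpowers_of_pow_eq_one hP hx hxP (hQP hzQ) ?_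
      obtain ⟨i, rfl⟩ := hz
      show (g * x ^ i * g⁻¹) ^ p = 1
      rw [conj_pow, ← zpow_natCast, zpow_comm, zpow_natCast, ← hx, pow_orderOf_eq_one, one_zpow]
      group
    set C := Subgroup.centralizer ({x} : Set G) with hC
    have hCn : C.Normal := by
      letI := Fintype.ofFinite G
      rw [hC, ← Cfsg.Lib.Blocks.centralizer_zpowers x]
      haveI := hXn
      infer_instance
    haveI := hCn
    obtain ⟨N', hNn, hNp, hNidx, hPC⟩ := centralizer_complement P hP hx hxP
    haveI := hNn
    obtain ⟨e, he⟩ := IsPGroup.iff_card.mp P.isPGroup'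
    have hNc : (Nat.card N').Coprime p := (hp.coprime_iff_not_dvd.2 hNp).symm
    have hmemN : ∀ z : C, z ∈ N' ↔ (orderOf (z : G)).Coprime p := fun z => by
      rw [Subgroup.orderOf_coe]
      exact Cfsg.Lib.Transfer.mem_iff_coprime_orderOf hNc (hNidx.trans he) z
    have hMn : (N'.map C.subtype).Normal := by
      refine ⟨?_⟩
      rintro _ ⟨z, hz, rfl⟩ g
      refine ⟨⟨g * z * g⁻¹, hCn.conj_mem z z.2 g⟩, (hmemN _).mpr ?_, rfl⟩
      show (orderOf (MulAut.conj g (z : G))).Coprime p
      rw [MulEquiv.orderOf_eq]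
      exact (hmemN z).mp hz
    have hMbot : N'.map C.subtype = ⊥ := by
      haveI := hMn
      exact le_bot_iff.mp (hK ▸ Cfsg.Lib.Components.le_pPrimeCore (N := N'.map C.subtype)
        (by rwa [Subgroup.card_map_of_injective C.subtype_injective]))
    have hN1 : Nat.card N' = 1 := by
      rw [← Subgroup.card_map_of_injective C.subtype_injective (K := N'), hMbot, Subgroup.card_bot]
    have hCc : Nat.card C = p ^ e := by rw [← N'.card_mul_index, hN1, one_mul, hNidx, he]
    have hPeq : (P : Subgroup G) = C := Subgroup.eq_of_le_of_card_ge hPC (by rw [hCc, he])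
    refine Cfsg.Lib.Blocks.isPSolvable_extend C (Or.inl ⟨e, hCc⟩) (isPSolvable_of_not_dvd ?_)
    rw [← Subgroup.index_eq_card, ← hPeq]
    exact P.not_dvd_index
  -- both cores are trivial: the group is simple
  haveI : Nontrivial G := ⟨⟨x, 1, fun h => by rw [h, orderOf_one] at hx; exact hp.ne_one hx.symm⟩⟩
  have hbig : ∀ L : Subgroup G, L.Normal → L ≠ ⊥ → L ≠ ⊤ → ¬ IsPSolvable p L := by
    intro L hLn hL0 _ hsol
    haveI := hLn
    haveI : Nontrivial L := (Subgroup.nontrivial_iff_ne_bot L).mpr hL0
    rcases Cfsg.Lib.GaschutzYen.exists_core_ne_bot hsol with h | h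
    · haveI hnorm : ((pCore p L).map L.subtype).Normal := by
        haveI : (pCore p L).Characteristic := Cfsg.Lib.Components.pCore_characteristic
        exact ConjAct.normal_of_characteristic_of_normal
      exact h (le_bot_iff.mp fun z hz => Subgroup.mem_bot.mpr (Subtype.ext (Subgroup.mem_bot.mp
        (hO ▸ Cfsg.Lib.Components.le_pCore (N := (pCore p L).map L.subtype)
          ((Cfsg.Lib.Components.isPGroup_pCore (G := L) p).map _) ⟨z, hz, rfl⟩ : (z : G) ∈ (⊥ : Subgroup G)))))
    · haveI hnorm : ((pPrimeCore p L).map L.subtype).Normal := by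
        haveI : (pPrimeCore p L).Characteristic := Cfsg.Lib.Components.pPrimeCore_characteristic
        exact ConjAct.normal_of_characteristic_of_normal
      exact h (le_bot_iff.mp fun z hz => Subgroup.mem_bot.mpr (Subtype.ext (Subgroup.mem_bot.mp
        (hK ▸ Cfsg.Lib.Components.le_pPrimeCore (N := (pPrimeCore p L).map L.subtype)
          (by rw [Subgroup.card_map_of_injective L.subtype_injective]
              exact Cfsg.Lib.Components.coprime_card_pPrimeCore p) ⟨z, hz, rfl⟩ : (z : G) ∈ (⊥ : Subgroup G)))))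
  have hsimple : IsSimpleGroup G := by
    refine ⟨fun L hLn => ?_⟩
    by_contra hne
    push Not at hne
    obtain ⟨hL0, hLt⟩ := hne
    refine hbig L hLn hL0 hLt (ih (Nat.card L) ?_ L rfl (Classical.arbitrary _) ?_ ?_)
    · exact lt_of_le_of_ne (Nat.le_of_dvd Nat.card_pos (Subgroup.card_subgroup_dvd_card L))
        (fun h => hLt ((Subgroup.card_eq_iff_eq_top L).mp h))
    · haveI := isCyclic_of_isPGroup P hP
        ((Classical.arbitrary (Sylow p L)).isPGroup'.map L.subtype)
      exact ((Classical.arbitrary (Sylow p L) : Subgroup L).equivMapOfInjective L.subtype L.subtype_injective).isCyclic.mpr this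
    · intro a b ha hb
      have hmap : (Subgroup.closure ({a, b} : Set L)).map L.subtype = Subgroup.closure ({(a : G), (b : G)} : Set G) := by
        rw [MonoidHom.map_closure, Set.image_pair]
        rfl
      refine isPSolvable_of_iso ((Subgroup.equivMapOfInjective _ L.subtype L.subtype_injective).trans
        (MulEquiv.subgroupCongr hmap)).symm (hc a b ?_ ?_)
      · rw [Subgroup.orderOf_coe, ha]
      · rw [Subgroup.orderOf_coe, hb]
  haveI := hsimple
  exfalso
  refine core (fun hab => ?_) P hP hdvd hc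
  have hPn : (P : Subgroup G).Normal := by
    refine ⟨fun z hz g => ?_⟩
    rwa [hab.1.comm g z, mul_inv_cancel_right]
  haveI := hPn
  exact hPne (le_bot_iff.mp (hO ▸ Cfsg.Lib.Components.le_pCore P.isPGroup'))

theorem main {G : Type u} [Group G] [Finite G] (P : Sylow p G) (hP : IsCyclic ↥(P : Subgroup G)) :
    IsPSolvable p G ↔
      ∀ x y : G, orderOf x = p → orderOf y = p → IsPSolvable p ↥(Subgroup.closure ({x, y} : Set G)) :=
  ⟨fun h _ _ _ _ => Cfsg.Lib.SolvStruct.CoprimeOrbits.isPSolvable_subgroup h Fact.out _,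
    main_aux (Nat.card G) G rfl P hP⟩

end Cfsg.Lib.CyclicPair
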